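import Cfsg.Agent.Lib.HallGen.SympFourSpectrum.Recip
import Cfsg.Agent.Lib.HallGen.SympSpectrum.Elements
import Cfsg.Agent.Lib.HallGen.PrimeGraphBC.Symplectic

/-!
# The spectrum of `PSp(4, q)`
-/

set_option autoImplicit false

namespace CfsgLib.HallGen.SympFourSpectrum

open Matrix Polynomial
open CfsgLib.HallGen.SympSpectrum (exists_torus exists_unipotent dvd_orderOf_block orderOf_dvd_two_mul endHom endHom_injective)
open CfsgLib.HallGen.PrimeGraphBC (endHom_center)

variable {F : Type*} [Field F]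

theorem charpoly_eq {g : Matrix (Fin 2 ⊕ Fin 2) (Fin 2 ⊕ Fin 2) F} (hg : g ∈ symplecticGroup (Fin 2) F) :
    ∃ a b : F, g.charpoly = X ^ 4 + C a * X ^ 3 + C b * X ^ 2 + C a * X + 1 := by
  have hdet : g.det = 1 := SymplecticGroup.det_eq_one hg
  have hinv : g⁻¹.charpoly = g.charpoly := by
    rw [SymplecticGroup.inv_eq_symplectic_inv g hg, Matrix.mul_assoc, Matrix.charpoly_mul_comm,
      Matrix.mul_assoc, show J (Fin 2) F * -J (Fin 2) F = 1 by
        rw [Matrix.mul_neg, J_squared, neg_neg], Matrix.mul_one, charpoly_transpose]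
  have hrev : g.charpoly = g.charpoly.reverse := by
    conv_lhs => rw [← hinv, charpoly_inv g (g.isUnit_iff_isUnit_det.2 (by rw [hdet]; exact isUnit_one)),
      hdet, Ring.inverse_one, map_one, mul_one,
      show ((-1 : F[X]) ^ Fintype.card (Fin 2 ⊕ Fin 2)) = 1 by simp; norm_num, one_mul]
    rw [reverse_charpoly]
  have hdeg : g.charpoly.natDegree = 4 := by rw [charpoly_natDegree_eq_dim]; rfl
  have h4 : g.charpoly.coeff 4 = 1 := by
    have := g.charpoly_monic.coeff_natDegree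
    rwa [hdeg] at this
  have hsym : ∀ i, g.charpoly.coeff i = g.charpoly.coeff (revAt 4 i) := fun i => by
    conv_lhs => rw [hrev, coeff_reverse, hdeg]
  have h0 : g.charpoly.coeff 0 = 1 := by
    rw [hsym 0, revAt_le (Nat.zero_le 4)]; exact h4
  have h1 : g.charpoly.coeff 1 = g.charpoly.coeff 3 := by
    rw [hsym 1, revAt_le (by norm_num)]
  refine ⟨g.charpoly.coeff 3, g.charpoly.coeff 2, ?_⟩
  conv_lhs => rw [as_sum_range_C_mul_X_pow g.charpoly, hdeg]
  simp only [Finset.sum_range_succ, Finset.sum_range_zero, h0, h1, h4, map_one]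
  ring

section Poly

variable {L : Type*} [Field L] [IsAlgClosed L] {p : ℕ} [Fact p.Prime] [CharP L p]
variable {m q : ℕ}

omit [IsAlgClosed L] [Fact p.Prime] [CharP L p] in
theorem dvd_pow_sub_one {P : L[X]} {N K : ℕ} (h : P ∣ X ^ N - 1) (hd : N ∣ K) : P ∣ X ^ K - 1 := by
  obtain ⟨r, rfl⟩ := hd
  refine h.trans ?_
  rw [pow_mul]
  simpa using sub_dvd_pow_sub_pow (X ^ N : L[X]) 1 r

omit [IsAlgClosed L] in
theorem dvd_pow_char {P : L[X]} {N : ℕ} (h : P ∣ (X ^ N - 1) ^ 2) : P ∣ X ^ (p * N) - C 1 := by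
  refine h.trans ((pow_dvd_pow _ (Fact.out : p.Prime).two_le).trans ?_)
  rw [sub_pow_char, one_pow, ← pow_mul, mul_comm, map_one]

/-- A product of two reciprocal quadratics with traces in the field, or conjugate, divides some `X ^ n ± 1`. -/
theorem exists_dvd (hm : 1 ≤ m) (hq : q = p ^ m) {θ φ : L}
    (h : (θ ^ q = θ ∧ φ ^ q = φ) ∨ (θ ^ q = φ ∧ φ ^ q = θ ∧ θ ≠ φ)) :
    ∃ n c, Cov (specList p q) n ∧ (c = 1 ∨ c = -1) ∧ quad θ * quad φ ∣ X ^ n - C (c : L) := by
  haveI : CharP L[X] p := inferInstance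
  by_cases hconj : θ ^ q = φ ∧ φ ^ q = θ ∧ θ ≠ φ
  · obtain ⟨hθ, hφ, hne⟩ := hconj
    have h4 : θ ^ 2 ≠ 4 := fun h2 => hne (by
      obtain ⟨a, ha⟩ := exists_root θ
      have hs : θ = 2 ∨ θ = -2 := by
        have : (θ - 2) * (θ + 2) = 0 := by linear_combination h2
        rcases mul_eq_zero.1 this with h' | h'
        exacts [Or.inl (sub_eq_zero.1 h'), Or.inr (eq_neg_of_add_eq_zero_left h')]
      rw [← hθ]
      rcases hs with rfl | rfl
      · rw [hq, ← iterateFrobenius_def, map_ofNat]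
      · rw [hq, ← iterateFrobenius_def, map_neg, map_ofNat])
    have hQ : θ ^ (q ^ 2) = θ := by rw [pow_two, pow_mul, hθ, hφ]
    obtain ⟨N, hN, -, c, hc, hd⟩ := quad_dvd (m := m * 2) (by omega) (Q := q ^ 2) (by rw [hq, ← pow_mul]) hQ h4
    refine ⟨N / half p, c, cov_square hN, hc, IsCoprime.mul_dvd (quad_coprime hne) hd ?_⟩
    have hd2 := Polynomial.map_dvd (iterateFrobenius L p m) hd
    have e1 : iterateFrobenius L p m θ = φ := by rw [iterateFrobenius_def, ← hq, hθ]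
    have e2 : iterateFrobenius L p m c = c := by
      rcases hc with rfl | rfl
      exacts [map_one _, by rw [map_neg, map_one]]
    simpa [quad, e1, e2] using hd2
  obtain ⟨hθ, hφ⟩ : θ ^ q = θ ∧ φ ^ q = φ := h.resolve_right hconj
  have hsp : ∀ {t : L}, t ^ 2 = 4 → ∀ {N}, half p ∣ N → quad t ∣ (X ^ N - 1) ^ 2 := by
    intro t ht N hN
    obtain ⟨a, ha, hqa⟩ := quad_special ht
    rw [hqa]
    refine pow_dvd_pow_of_dvd ?_ 2
    rw [dvd_iff_isRoot]
    simp only [IsRoot, eval_sub, eval_pow, eval_X, eval_one, sub_eq_zero]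
    obtain ⟨r, rfl⟩ := hN
    unfold half
    split_ifs with h
    · subst h
      have : a = 1 := by
        rcases sq_eq_one_iff.1 ha with rfl | rfl
        · rfl
        · exact CharTwo.neg_eq _
      rw [this, one_pow]
    · rw [pow_mul, ha, one_pow]
  have h2 : ∀ {t : L}, t ^ q = t → t ^ 2 ≠ 4 → ∃ N, (N = q + 1 ∨ N = q - 1) ∧ half p ∣ N ∧ quad t ∣ X ^ N - 1 := by
    intro t ht h4
    obtain ⟨N, hN, hd, -⟩ := quad_dvd hm hq ht h4
    exact ⟨N, hN, half_dvd m hm hq hN, hd⟩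
  have hcm : ∀ {N}, (N = q + 1 ∨ N = q - 1) → quad θ * quad φ ∣ (X ^ N - 1) ^ 2 →
      ∃ n c, Cov (specList p q) n ∧ (c = 1 ∨ c = -1) ∧ quad θ * quad φ ∣ X ^ n - C (c : L) :=
    fun {N} hN hd => ⟨p * N, 1, cov_mul hN, Or.inl rfl, dvd_pow_char hd⟩
  by_cases hθ4 : θ ^ 2 = 4 <;> by_cases hφ4 : φ ^ 2 = 4
  · by_cases he : θ = φ
    · subst he
      obtain ⟨a, ha, hqa⟩ := quad_special hθ4
      obtain ⟨t, ht, h4⟩ : ∃ t, p ^ t ∣ top p ∧ 4 ≤ p ^ t := by
        unfold top
        have := (Fact.out : p.Prime).two_le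
        split_ifs with h h'
        · exact ⟨2, by subst h; norm_num, by subst h; norm_num⟩
        · exact ⟨2, by subst h'; norm_num, by subst h'; norm_num⟩
        · refine ⟨1, by rw [pow_one], ?_⟩
          rw [pow_one]
          omega
      refine ⟨p ^ t, a ^ p ^ t, cov_top.mono ht, sq_eq_one_iff.1 (by rw [← pow_mul, mul_comm, pow_mul, ha, one_pow]), ?_⟩
      rw [hqa, ← pow_add, map_pow, ← sub_pow_char_pow]
      exact pow_dvd_pow _ h4
    · exact hcm (Or.inl rfl) (IsCoprime.mul_dvd (quad_coprime he) (hsp hθ4 (half_dvd m hm hq (Or.inl rfl)))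
        (hsp hφ4 (half_dvd m hm hq (Or.inl rfl))))
  · obtain ⟨N, hN, hh, hd⟩ := h2 hφ hφ4
    exact hcm hN (IsCoprime.mul_dvd (quad_coprime fun e => hφ4 (e ▸ hθ4)) (hsp hθ4 hh)
      (hd.trans (dvd_pow_self _ two_ne_zero)))
  · obtain ⟨N, hN, hh, hd⟩ := h2 hθ hθ4
    exact hcm hN (IsCoprime.mul_dvd (quad_coprime fun e => hθ4 (e ▸ hφ4)) (hd.trans (dvd_pow_self _ two_ne_zero))
      (hsp hφ4 hh))
  · obtain ⟨N, hN, -, hd⟩ := h2 hθ hθ4
    by_cases he : θ = φ
    · subst he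
      exact hcm hN (by rw [pow_two]; exact mul_dvd_mul hd hd)
    obtain ⟨N', hN', -, hd'⟩ := h2 hφ hφ4
    by_cases hNN : N = N'
    · subst hNN
      exact hcm hN (IsCoprime.mul_dvd (quad_coprime he) (hd.trans (dvd_pow_self _ two_ne_zero))
        (hd'.trans (dvd_pow_self _ two_ne_zero)))
    · have hK : ∀ {M}, (M = q + 1 ∨ M = q - 1) → M ∣ (q ^ 2 - 1) / half p := by
        intro M hM
        have hd1 := half_dvd m hm hq (Or.inl rfl : q + 1 = q + 1 ∨ _ = q - 1)
        have hd2 := half_dvd m hm hq (Or.inr rfl : q - 1 = q + 1 ∨ q - 1 = q - 1)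
        rw [show q ^ 2 - 1 = (q + 1) * (q - 1) by rw [← Nat.sq_sub_sq, one_pow]]
        rcases hM with rfl | rfl
        · rw [Nat.mul_div_assoc _ hd2]
          exact dvd_mul_right _ _
        · rw [mul_comm, Nat.mul_div_assoc _ hd1]
          exact dvd_mul_right _ _
      exact ⟨_, 1, cov_square (Or.inr rfl), Or.inl rfl, by
        rw [map_one]
        exact IsCoprime.mul_dvd (quad_coprime he) (dvd_pow_sub_one hd (hK hN)) (dvd_pow_sub_one hd' (hK hN'))⟩

end Poly

variable [Fintype F]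

local notation "qq" => Fintype.card F

theorem exists_pow {g : Matrix (Fin 2 ⊕ Fin 2) (Fin 2 ⊕ Fin 2) F} (hg : g ∈ symplecticGroup (Fin 2) F)
    {p m : ℕ} [Fact p.Prime] [CharP F p] (hm : 1 ≤ m) (hq : qq = p ^ m) :
    ∃ n, Cov (specList p qq) n ∧ (g ^ n = 1 ∨ g ^ n = -1) := by
  obtain ⟨a, b, hab⟩ := charpoly_eq hg
  let L := AlgebraicClosure F
  haveI : CharP L p := charP_of_injective_algebraMap (algebraMap F L).injective p
  haveI : ExpChar L p := ExpChar.prime Fact.out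
  let f := algebraMap F L
  obtain ⟨θ, hθ⟩ := IsAlgClosed.exists_root (C 1 * X ^ 2 + C (f a) * X + C (f b - 2) : L[X])
    (by rw [degree_quadratic one_ne_zero]; exact two_ne_zero)
  have hθ' : θ ^ 2 + f a * θ + (f b - 2) = 0 := by simpa [IsRoot] using hθ
  set φ := -f a - θ with hφ
  have hfix : ∀ x : F, f x ^ qq = f x := fun x => by rw [← map_pow, FiniteField.pow_card]
  have hI : ∀ x : L, iterateFrobenius L p m x = x ^ qq := fun x => by rw [iterateFrobenius_def, hq]
  have hθq : (θ ^ qq) ^ 2 + f a * θ ^ qq + (f b - 2) = 0 := by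
    have h1 := congrArg (iterateFrobenius L p m) hθ'
    rw [map_add, map_add, map_mul, map_sub, map_pow, map_ofNat, map_zero, hI, hI, hI, hfix, hfix] at h1
    exact h1
  have hφq : φ ^ qq = -f a - θ ^ qq := by
    rw [← hI φ, hφ, map_sub, map_neg, hI, hI, hfix]
  have hcases : (θ ^ qq - θ) * (θ ^ qq - φ) = 0 := by rw [hφ]; linear_combination hθq - hθ'
  have h : (θ ^ qq = θ ∧ φ ^ qq = φ) ∨ (θ ^ qq = φ ∧ φ ^ qq = θ ∧ θ ≠ φ) := by
    by_cases he : θ ^ qq = θ
    · exact Or.inl ⟨he, by rw [hφq, he]⟩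
    · have h1 := sub_eq_zero.1 ((mul_eq_zero.1 hcases).resolve_left (sub_ne_zero.2 he))
      exact Or.inr ⟨h1, by rw [hφq, h1, hφ]; ring, fun e => he (h1.trans e.symm)⟩
  have hP : g.charpoly.map f = quad θ * quad φ := by
    have h1 : C θ + C φ = -C (f a) := by rw [← map_add, ← map_neg]; congr 1; rw [hφ]; ring
    have h2 : C θ * C φ = C (f b) - 2 := by
      rw [← map_mul, ← map_ofNat C 2, ← map_sub]
      congr 1
      rw [hφ]
      linear_combination -hθ'
    rw [hab]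
    simp only [Polynomial.map_add, Polynomial.map_mul, Polynomial.map_pow, map_X, map_C, Polynomial.map_one, quad]
    linear_combination (X ^ 3 + X) * h1 - X ^ 2 * h2
  obtain ⟨n, c, hn, hc, hd⟩ := exists_dvd hm hq h
  exact ⟨n, hn, pow_of_dvd f g hc (hP ▸ hd)⟩

theorem cov_of_psp (x : Cfsg.PSp 2 F) {p m : ℕ} [Fact p.Prime] [CharP F p] (hm : 1 ≤ m) (hq : qq = p ^ m) :
    Cov (specList p qq) (orderOf x) := by
  obtain ⟨g, rfl⟩ := QuotientGroup.mk_surjective x
  obtain ⟨n, hn, h⟩ := exists_pow g.2 hm hq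
  refine hn.mono (orderOf_dvd_of_pow_eq_one ?_)
  rw [← QuotientGroup.mk_pow, QuotientGroup.eq_one_iff, Subgroup.mem_center_iff]
  intro y
  apply Subtype.ext
  rcases h with h | h <;> simp [h]

theorem orderOf_psp_two [CharP F 2] {n : ℕ} (hn : 1 ≤ n) (g : ↥(Matrix.symplecticGroup (Fin n) F)) :
    orderOf (QuotientGroup.mk g : Cfsg.PSp n F) = orderOf g := by
  refine orderOf_injective (QuotientGroup.mk' (Subgroup.center ↥(Matrix.symplecticGroup (Fin n) F)))
    ((MonoidHom.ker_eq_bot_iff _).1 ?_) g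
  rw [QuotientGroup.ker_mk']
  refine (Subgroup.eq_bot_iff_forall _).2 fun z hz => endHom_injective ?_
  rw [map_one]
  rcases (endHom_center hn).1 hz with h | h
  · exact h
  · rw [h]
    refine LinearMap.ext fun v => ?_
    show -v = v
    rw [neg_eq_iff_add_eq_zero, ← two_smul F v, CharTwo.two_eq_zero, zero_smul]

theorem exists_psp {p m : ℕ} [Fact p.Prime] [CharP F p] (hm : 1 ≤ m) (hq : qq = p ^ m) (l : ℕ)
    (hl : l ∈ specList p qq) : ∃ x : Cfsg.PSp 2 F, l ∣ orderOf x := by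
  have hp : p.Prime := Fact.out
  have hcard : Nat.card F = qq := Nat.card_eq_fintype_card
  have hodd : p ≠ 2 → Odd qq := fun h => hq ▸ (hp.odd_of_ne_two h).pow
  have hev : p = 2 → Even qq := fun h => hq ▸ h ▸ Nat.even_pow.2 ⟨even_two, by omega⟩
  have hsq : ∀ N, (N = qq ^ 2 + 1 ∨ N = qq ^ 2 - 1) → ∃ x : Cfsg.PSp 2 F, N / half p ∣ orderOf x := by
    intro N hN
    obtain ⟨T, hT⟩ := exists_torus (F := F) (d := 2) (by norm_num) (N := N) (by rwa [hcard])
    refine ⟨QuotientGroup.mk T, ?_⟩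
    have h := hT ▸ orderOf_dvd_two_mul T
    unfold half
    split_ifs with h2
    · rw [Nat.div_one]
      refine (Nat.coprime_two_right.2 ?_).dvd_of_dvd_mul_left h
      have he : Even (qq ^ 2) := (Nat.even_pow (n := 2)).2 ⟨hev h2, two_ne_zero⟩
      have : 1 ≤ qq ^ 2 := Nat.one_le_pow _ _ Fintype.card_pos
      obtain ⟨c, hc⟩ := he
      rw [Nat.odd_iff]
      omega
    · have hN2 : 2 ∣ N := by
        obtain ⟨c, hc⟩ := (hodd h2).pow (n := 2)
        omega
      exact Nat.dvd_of_mul_dvd_mul_left two_pos (by rwa [Nat.mul_div_cancel' hN2])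
  have hmul : ∀ N, (N = qq + 1 ∨ N = qq - 1) → ∃ x : Cfsg.PSp 2 F, p * N ∣ orderOf x := by
    intro N hN
    obtain ⟨T, hT⟩ := exists_torus (F := F) (d := 1) le_rfl (N := N) (by rwa [hcard, pow_one])
    obtain ⟨U, ⟨j, hj⟩, hU⟩ := exists_unipotent (F := F) (p := p) (b := 1) le_rfl
    have hpU : p ∣ orderOf U := by simpa using hU 0 (by norm_num)
    have hcop : p.Coprime N := by
      refine hp.coprime_iff_not_dvd.2 fun h => ?_
      have hd : p ∣ qq := hq ▸ dvd_pow_self p (by omega)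
      rcases hN with rfl | rfl
      · exact hp.not_dvd_one ((Nat.dvd_add_right hd).1 h)
      · have h1 : 1 ≤ qq := Fintype.card_pos
        have := Nat.dvd_sub hd h
        rw [Nat.sub_sub_self h1] at this
        exact hp.not_dvd_one this
    by_cases h2 : p = 2
    · obtain ⟨x, hx1, hx2⟩ := dvd_orderOf_block (a := 1) (b := 1) le_rfl U T le_rfl (by
        rw [hT]
        obtain ⟨c, hc⟩ := hev h2
        have := Fintype.card_pos (α := F)
        rcases hN with rfl | rfl <;> rw [Nat.odd_iff] <;> omega)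
      exact ⟨x, hcop.mul_dvd_of_dvd_of_dvd (hpU.trans hx1) (hT ▸ hx2)⟩
    · obtain ⟨x, hx1, hx2⟩ := dvd_orderOf_block (a := 1) (b := 1) le_rfl T U le_rfl (hj ▸ (hp.odd_of_ne_two h2).pow)
      exact ⟨x, hcop.mul_dvd_of_dvd_of_dvd (hpU.trans hx2) (hT ▸ hx1)⟩
  have htop : ∃ x : Cfsg.PSp 2 F, top p ∣ orderOf x := by
    obtain ⟨U, ⟨j, hj⟩, hU⟩ := exists_unipotent (F := F) (p := p) (b := 2) (by norm_num)
    refine ⟨QuotientGroup.mk U, ?_⟩
    unfold top
    split_ifs with h2 h3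
    · subst h2
      rw [orderOf_psp_two (by norm_num) U]
      simpa using hU 1 (by norm_num)
    · subst h3
      refine Nat.Coprime.dvd_of_dvd_mul_left (by norm_num) (((?_ : 9 ∣ orderOf U)).trans (orderOf_dvd_two_mul U))
      simpa using hU 1 (by norm_num)
    · refine Nat.Coprime.dvd_of_dvd_mul_left ((Nat.coprime_primes hp Nat.prime_two).2 h2)
        (((?_ : p ∣ orderOf U)).trans (orderOf_dvd_two_mul U))
      simpa using hU 0 (by norm_num)
  simp only [specList, List.mem_cons, List.not_mem_nil, or_false] at hl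
  rcases hl with rfl | rfl | rfl | rfl | rfl
  exacts [hsq _ (Or.inl rfl), hsq _ (Or.inr rfl), hmul _ (Or.inl rfl), hmul _ (Or.inr rfl), htop]

theorem range_psp {p m : ℕ} [Fact p.Prime] [CharP F p] (hm : 1 ≤ m) (hq : qq = p ^ m) :
    Set.range (orderOf : Cfsg.PSp 2 F → ℕ) = {n | Cov (specList p qq) n} := by
  classical
  haveI : Finite (Cfsg.PSp 2 F) := Quotient.finite _
  refine Set.Subset.antisymm (by rintro _ ⟨x, rfl⟩; exact cov_of_psp x hm hq) ?_
  rintro n ⟨l, hl, hn⟩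
  obtain ⟨x, hx⟩ := exists_psp hm hq l hl
  exact ⟨x ^ (orderOf x / n), orderOf_pow_orderOf_div (orderOf_pos x).ne' (hn.trans hx)⟩

end CfsgLib.HallGen.SympFourSpectrum
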