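import Mathlib

/-!
# Reciprocal quadratic polynomials over finite fields

The list of maximal element orders of `PSp(4, q)` and the divisibilities `X ^ 2 - t X + 1 ∣ X ^ n ± 1`.
-/

set_option autoImplicit false

namespace CfsgLib.HallGen.SympFourSpectrum

open Polynomial

/-- The centre of `SL₂` has this order. -/
def half (p : ℕ) : ℕ := if p = 2 then 1 else 2

/-- The order of a regular unipotent element of `PSp(4)`. -/
def top (p : ℕ) : ℕ := if p = 2 then 4 else if p = 3 then 9 else p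

/-- The orders to which all element orders of `PSp(4, q)` reduce. -/
def specList (p q : ℕ) : List ℕ :=
  [(q ^ 2 + 1) / half p, (q ^ 2 - 1) / half p, p * (q + 1), p * (q - 1), top p]

/-- `n` divides a member of the list. -/
def Cov (l : List ℕ) (n : ℕ) : Prop := ∃ a ∈ l, n ∣ a

theorem Cov.mono {l : List ℕ} {n k : ℕ} (h : Cov l n) (hd : k ∣ n) : Cov l k :=
  h.imp fun _ ha => ⟨ha.1, hd.trans ha.2⟩

theorem cov_square {p q N : ℕ} (hN : N = q ^ 2 + 1 ∨ N = q ^ 2 - 1) : Cov (specList p q) (N / half p) := by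
  rcases hN with rfl | rfl
  · exact ⟨_, by simp [specList], dvd_rfl⟩
  · exact ⟨_, List.mem_cons_of_mem _ List.mem_cons_self, dvd_rfl⟩

theorem cov_mul {p q N : ℕ} (hN : N = q + 1 ∨ N = q - 1) : Cov (specList p q) (p * N) := by
  rcases hN with rfl | rfl <;> exact ⟨_, by simp [specList], dvd_rfl⟩

theorem cov_top {p q : ℕ} : Cov (specList p q) (top p) := ⟨_, by simp [specList], dvd_rfl⟩

theorem half_dvd {p q : ℕ} [Fact p.Prime] (m : ℕ) (hm : 1 ≤ m) (hq : q = p ^ m) {N : ℕ}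
    (hN : N = q + 1 ∨ N = q - 1) : half p ∣ N := by
  unfold half
  split_ifs with h
  · exact one_dvd _
  · obtain ⟨c, hc⟩ := ((Fact.out : p.Prime).odd_of_ne_two h).pow (n := m)
    rw [← hq] at hc
    rcases hN with rfl | rfl <;> omega

theorem top_dvd_of_two_mul {p q : ℕ} [Fact p.Prime] (m : ℕ) (hm : 1 ≤ m) (hq : q = p ^ m) (hp : p ≠ 2) :
    Cov (specList p q) (2 * p) := by
  refine (cov_mul (p := p) (Or.inl rfl : q + 1 = q + 1 ∨ q + 1 = q - 1)).mono ?_
  have h := half_dvd m hm hq (Or.inl rfl : q + 1 = q + 1 ∨ q + 1 = q - 1)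
  rw [half, if_neg hp] at h
  exact mul_comm 2 p ▸ mul_dvd_mul_left p h

variable {L : Type*} [Field L]

/-- The polynomial `X ^ 2 - t X + 1`. -/
noncomputable def quad (t : L) : L[X] := X ^ 2 - C t * X + 1

theorem quad_eq {t a : L} (ha : a ^ 2 - t * a + 1 = 0) :
    a ≠ 0 ∧ t = a + a⁻¹ ∧ quad t = (X - C a) * (X - C a⁻¹) := by
  have ha0 : a ≠ 0 := by rintro rfl; simp at ha
  have hta : t = a + a⁻¹ := by field_simp; linear_combination -ha
  refine ⟨ha0, hta, ?_⟩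
  have h1 : C a * C a⁻¹ = (1 : L[X]) := by rw [← map_mul, mul_inv_cancel₀ ha0, map_one]
  rw [quad, hta, map_add]
  linear_combination (-1 : L[X]) * h1

theorem quad_coprime {t s : L} (h : t ≠ s) : IsCoprime (quad t) (quad s) := by
  have hd : C (s - t)⁻¹ * (C s - C t) = (1 : L[X]) := by
    rw [← map_sub, ← map_mul, inv_mul_cancel₀ (sub_ne_zero.2 (Ne.symm h)), map_one]
  refine ⟨1 + (C t - X) * C (s - t)⁻¹, -((C t - X) * C (s - t)⁻¹), ?_⟩
  unfold quad
  linear_combination ((C t - X) * X) * hd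

theorem exists_root [IsAlgClosed L] (t : L) : ∃ a : L, a ^ 2 - t * a + 1 = 0 := by
  obtain ⟨a, ha⟩ := IsAlgClosed.exists_root (quad t) (by
    rw [quad, show (X ^ 2 - C t * X + 1 : L[X]) = C 1 * X ^ 2 + C (-t) * X + C 1 by simp; ring,
      degree_quadratic one_ne_zero]
    exact two_ne_zero)
  refine ⟨a, ?_⟩
  simpa [quad, IsRoot] using ha

/-- A double root is `±1`. -/
theorem quad_special [IsAlgClosed L] {t : L} (h : t ^ 2 = 4) :
    ∃ a : L, a ^ 2 = 1 ∧ quad t = (X - C a) ^ 2 := by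
  obtain ⟨a, ha⟩ := exists_root t
  obtain ⟨ha0, hta, hq⟩ := quad_eq ha
  have haa : a = a⁻¹ := by
    have h1 : (a - a⁻¹) ^ 2 = 0 := by
      have : a * a⁻¹ = 1 := mul_inv_cancel₀ ha0
      rw [hta] at h
      linear_combination h - 4 * this
    exact sub_eq_zero.1 (sq_eq_zero_iff.1 h1)
  refine ⟨a, ?_, by rw [hq, ← haa, pow_two]⟩
  rw [pow_two]
  nth_rewrite 2 [haa]
  exact mul_inv_cancel₀ ha0

/-- A root of unity whose inverse also is a root gives the divisibility. -/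
theorem quad_dvd_of_root {t a : L} (ha : a ^ 2 - t * a + 1 = 0) (hne : t ^ 2 ≠ 4) {n : ℕ}
    (hn : a ^ (2 * n) = 1) : quad t ∣ X ^ n - C (a ^ n) := by
  obtain ⟨ha0, hta, hq⟩ := quad_eq ha
  have hne' : a ≠ a⁻¹ := fun h => hne (by
    rw [hta, ← h]
    have h1 : a * a = 1 := by nth_rewrite 2 [h]; exact mul_inv_cancel₀ ha0
    linear_combination 4 * h1)
  rw [hq]
  refine IsCoprime.mul_dvd (isCoprime_X_sub_C_of_isUnit_sub (sub_ne_zero.2 hne').isUnit) ?_ ?_ <;>
    rw [dvd_iff_isRoot] <;> simp only [IsRoot, eval_sub, eval_pow, eval_X, eval_C]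
  · exact sub_self _
  · rw [sub_eq_zero, inv_pow]
    refine inv_eq_of_mul_eq_one_right ?_
    rw [← pow_add, ← two_mul, hn]

/-- A trace fixed by `x ↦ x ^ Q` gives the exponent `Q ± 1`. -/
theorem quad_dvd [IsAlgClosed L] {p : ℕ} [Fact p.Prime] [CharP L p] {m : ℕ} (hm : 1 ≤ m) {Q : ℕ} (hQ : Q = p ^ m)
    {t : L} (ht : t ^ Q = t) (hne : t ^ 2 ≠ 4) :
    ∃ N, (N = Q + 1 ∨ N = Q - 1) ∧ quad t ∣ X ^ N - 1 ∧
      ∃ c : L, (c = 1 ∨ c = -1) ∧ quad t ∣ X ^ (N / half p) - C c := by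
  obtain ⟨a, ha⟩ := exists_root t
  obtain ⟨ha0, hta, -⟩ := quad_eq ha
  have hsum : a ^ Q + (a ^ Q)⁻¹ = a + a⁻¹ := by
    have h1 : (a + a⁻¹) ^ Q = a ^ Q + a⁻¹ ^ Q := by rw [hQ]; exact add_pow_char_pow ..
    rw [hta, h1, inv_pow] at ht
    exact ht
  have hQ0 : a ^ Q ≠ 0 := pow_ne_zero _ ha0
  have hprod : (a ^ Q - a) * (a ^ Q - a⁻¹) = 0 := by
    have e1 : a * a⁻¹ = 1 := mul_inv_cancel₀ ha0
    have e2 : a ^ Q * (a ^ Q)⁻¹ = 1 := mul_inv_cancel₀ hQ0
    linear_combination a ^ Q * hsum - e2 + e1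
  obtain ⟨N, hN, haN⟩ : ∃ N, (N = Q + 1 ∨ N = Q - 1) ∧ a ^ N = 1 := by
    rcases mul_eq_zero.1 hprod with h | h
    · refine ⟨Q - 1, Or.inr rfl, ?_⟩
      have hQ1 : Q - 1 + 1 = Q := Nat.sub_add_cancel (hQ ▸ Nat.one_le_pow _ _ (Fact.out : p.Prime).pos)
      refine mul_right_cancel₀ ha0 ?_
      rw [← pow_succ, hQ1, one_mul]
      exact sub_eq_zero.1 h
    · exact ⟨Q + 1, Or.inl rfl, by rw [pow_succ, sub_eq_zero.1 h, inv_mul_cancel₀ ha0]⟩
  refine ⟨N, hN, ?_, ?_⟩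
  · have := quad_dvd_of_root ha hne (n := N) (by rw [mul_comm, pow_mul, haN, one_pow])
    rwa [haN, map_one] at this
  · have hh := half_dvd m hm hQ hN
    have h2 : a ^ (2 * (N / half p)) = 1 := by
      rw [← orderOf_dvd_iff_pow_eq_one]
      refine (orderOf_dvd_of_pow_eq_one haN).trans ?_
      unfold half at hh ⊢
      split_ifs with h
      · simp
      · rw [if_neg h] at hh
        rw [Nat.mul_div_cancel' hh]
    refine ⟨a ^ (N / half p), ?_, quad_dvd_of_root ha hne h2⟩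
    rw [← sq_eq_one_iff, ← pow_mul, mul_comm, h2]

/-- A polynomial killing a matrix after an extension of scalars. -/
theorem pow_of_dvd {K : Type*} [Field K] {ι : Type*} [Fintype ι] [DecidableEq ι] (f : K →+* L)
    (G : Matrix ι ι K) {n : ℕ} {c : L} (hc : c = 1 ∨ c = -1) (h : G.charpoly.map f ∣ X ^ n - C c) :
    G ^ n = 1 ∨ G ^ n = -1 := by
  have hc' : ∃ c' : K, (c' = 1 ∨ c' = -1) ∧ f c' = c := by
    rcases hc with rfl | rfl
    exacts [⟨1, Or.inl rfl, map_one f⟩, ⟨-1, Or.inr rfl, by rw [map_neg, map_one]⟩]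
  obtain ⟨c', hc', rfl⟩ := hc'
  have h' : G.charpoly ∣ X ^ n - C c' := by
    rw [← Polynomial.map_dvd_map f f.injective G.charpoly_monic]
    simpa using h
  obtain ⟨r, hr⟩ := h'
  have h2 := congrArg (aeval G) hr
  rw [map_mul, Matrix.aeval_self_charpoly, zero_mul, map_sub, map_pow, aeval_X, aeval_C, sub_eq_zero] at h2
  rcases hc' with rfl | rfl
  · exact Or.inl (h2.trans (map_one _))
  · exact Or.inr (h2.trans (by rw [map_neg, map_one]))

end CfsgLib.HallGen.SympFourSpectrum
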