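import Cfsg.Agent.Lib.HallGen.SympFourSpectrum.Recip
import Cfsg.Agent.Lib.HallGen.SympSpectrum.Elements

/-!
# Powers in `SL(2, q²)`
-/

set_option autoImplicit false

namespace CfsgLib.HallGen.SympFourSpectrum

open Matrix
open scoped Polynomial

variable {K : Type} [Field K]

local notation "SLK" => Matrix.SpecialLinearGroup (Fin 2) K

theorem sl_charpoly (x : SLK) :
    x.1.charpoly = Polynomial.X ^ 2 - Polynomial.C x.1.trace * Polynomial.X + 1 := by
  rw [Matrix.charpoly_fin_two, x.det_coe, map_one]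

theorem sl_ch (x : SLK) : x.1 * x.1 = x.1.trace • x.1 - 1 := by
  have h := Matrix.aeval_self_charpoly x.1
  rw [sl_charpoly, map_add, map_sub, map_pow, map_mul, Polynomial.aeval_X, Polynomial.aeval_C, map_one,
    ← Algebra.smul_def, pow_two] at h
  rw [eq_sub_iff_add_eq]
  exact sub_eq_zero.1 ((by abel : x.1 * x.1 + 1 - x.1.trace • x.1 = x.1 * x.1 - x.1.trace • x.1 + 1).trans h)

/-- A unipotent element up to sign. -/
theorem sl_unipotent (x : SLK) (ht : x.1.trace ^ 2 = 4) :
    ∃ a : K, (a = 1 ∨ a = -1) ∧ (x.1 - a • 1) ^ 2 = 0 := by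
  obtain ⟨a, ha, hta⟩ : ∃ a : K, (a = 1 ∨ a = -1) ∧ x.1.trace = 2 * a := by
    have : (x.1.trace - 2) * (x.1.trace + 2) = 0 := by linear_combination ht
    rcases mul_eq_zero.1 this with h | h
    exacts [⟨1, Or.inl rfl, by rw [sub_eq_zero.1 h, mul_one]⟩,
      ⟨-1, Or.inr rfl, by rw [eq_neg_of_add_eq_zero_left h]; ring⟩]
  refine ⟨a, ha, ?_⟩
  have ha2 : a * a = 1 := by rcases ha with rfl | rfl <;> simp
  simp only [pow_two, sub_mul, mul_sub, smul_mul_assoc, mul_smul_comm, one_mul, mul_one, smul_smul, ha2, one_smul,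
    sl_ch, hta, two_mul, add_smul, smul_sub]
  abel

variable {p : ℕ} [Fact p.Prime] [CharP K p]

theorem sl_pow_prime (x : SLK) (ht : x.1.trace ^ 2 = 4) : x.1 ^ p = 1 ∨ x.1 ^ p = -1 := by
  obtain ⟨a, ha, h⟩ := sl_unipotent x ht
  have h1 : (x.1 - a • 1) ^ p = 0 := pow_eq_zero_of_le (Fact.out : p.Prime).two_le h
  rw [sub_pow_char_of_commute p ((Commute.one_right x.1).smul_right a), sub_eq_zero, smul_pow, one_pow] at h1
  rw [h1]
  rcases ha with rfl | rfl
  · exact Or.inl (by rw [one_pow, one_smul])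
  · rcases neg_one_pow_eq_or K p with e | e
    exacts [Or.inl (by rw [e, one_smul]), Or.inr (by rw [e, neg_smul, one_smul])]

/-- An element with trace in the field with `Q` elements has order dividing `Q ± 1` up to sign. -/
theorem sl_pow (x : SLK) {m Q : ℕ} (hm : 1 ≤ m) (hQ : Q = p ^ m) (ht : x.1.trace ^ Q = x.1.trace)
    (h4 : x.1.trace ^ 2 ≠ 4) :
    ∃ N, (N = Q + 1 ∨ N = Q - 1) ∧ (x.1 ^ (N / half p) = 1 ∨ x.1 ^ (N / half p) = -1) := by
  let L := AlgebraicClosure K
  haveI : CharP L p := charP_of_injective_algebraMap (algebraMap K L).injective p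
  obtain ⟨N, hN, -, c, hc, hd⟩ := quad_dvd (L := L) hm hQ (t := algebraMap K L x.1.trace)
    (by rw [← map_pow, ht])
    (fun h => h4 ((algebraMap K L).injective (by rw [map_pow, h, map_ofNat])))
  refine ⟨N, hN, pow_of_dvd (algebraMap K L) x.1 hc ?_⟩
  rw [sl_charpoly]
  simpa [quad] using hd

/-- Elements of orders `Q ± 1` in `SL(2, Q)`. -/
theorem exists_order [Fintype K] {N : ℕ} (hN : N = Fintype.card K + 1 ∨ N = Fintype.card K - 1) :
    ∃ x : SLK, orderOf x = N := by
  classical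
  rcases hN with rfl | rfl
  · obtain ⟨g, hg⟩ := SL2Char.exists_elliptic_SL (F := K)
    have hnc : IsCyclic (Subgroup.centralizer ({g} : Set (Matrix.SpecialLinearGroup (Fin 2) K))) :=
      Classical.Two.isCyclic_centralizer (SL2Char.nonScalar_of_elliptic hg) (SL2Char.tr_sq_ne_of_elliptic hg)
    obtain ⟨z, hz⟩ := IsCyclic.exists_ofOrder_eq_natCard
      (α := Subgroup.centralizer ({g} : Set (Matrix.SpecialLinearGroup (Fin 2) K)))
    rw [SL2Char.card_centralizer_SL hg] at hz
    exact ⟨z, by rw [← hz, Subgroup.orderOf_coe]⟩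
  · obtain ⟨a, ha⟩ := IsCyclic.exists_ofOrder_eq_natCard (α := Kˣ)
    rw [Nat.card_units, Nat.card_eq_fintype_card] at ha
    refine ⟨SL2Char.diagS a, ?_⟩
    rw [← ha]
    refine orderOf_injective (MonoidHom.mk' SL2Char.diagS fun x y => ?_) (fun x y h => ?_) a
    · exact Subtype.ext (by ext i j; fin_cases i <;> fin_cases j <;> simp [Matrix.mul_apply, Fin.sum_univ_two, mul_comm])
    · exact Units.ext (congrArg (fun s : Matrix.SpecialLinearGroup (Fin 2) K => s.1 0 0) h)

/-- A diagonal element of `SL₂`. -/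
def diagU (a : Kˣ) : SLK := ⟨!![(a : K), 0; 0, ((a⁻¹ : Kˣ) : K)], by simp [Matrix.det_fin_two_of]⟩

theorem diagU_val (a : Kˣ) : (diagU a).1 = !![(a : K), 0; 0, ((a⁻¹ : Kˣ) : K)] := rfl

theorem diagU_mul (a b : Kˣ) : diagU (a * b) = diagU a * diagU b := Subtype.ext (by
  ext i j; fin_cases i <;> fin_cases j <;> simp [diagU_val, Matrix.mul_apply, Fin.sum_univ_two, mul_comm])

theorem diagU_pow (a : Kˣ) (j : ℕ) : diagU (a ^ j) = diagU a ^ j :=
  map_pow (MonoidHom.mk' diagU diagU_mul) a j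

omit [Fact p.Prime] [CharP K p] in
theorem two_mul_of_diag_pow {a : Kˣ} {j : ℕ} (h : (diagU a).1 ^ j = 1 ∨ (diagU a).1 ^ j = -1) :
    a ^ (2 * j) = 1 := by
  rw [← Matrix.SpecialLinearGroup.coe_pow, ← diagU_pow, diagU_val] at h
  refine Units.ext ?_
  rw [mul_comm, pow_mul, Units.val_pow_eq_pow_val, Units.val_one, sq_eq_one_iff]
  rcases h with h | h <;> have h' := congrFun (congrFun h 0) 0 <;> simp at h'
  exacts [Or.inl (by simpa using h'), Or.inr (by simpa using h')]

/-- The upper unitriangular element. -/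
def shear (K : Type) [Field K] : Matrix.SpecialLinearGroup (Fin 2) K :=
  ⟨!![1, 1; 0, 1], by simp [Matrix.det_fin_two_of]⟩

theorem shear_val : (shear K).1 = !![1, 1; 0, 1] := rfl

theorem shear_trace : (shear K).1.trace ^ 2 = 4 := by
  rw [shear_val, Matrix.trace_fin_two_of]
  norm_num

end CfsgLib.HallGen.SympFourSpectrum
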