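import Cfsg.Agent.Lib.HallGen.SympFourSpectrum.Recip
import Cfsg.Agent.S3444

/-!
# Element orders of a module extended by a group of linear maps
-/

set_option autoImplicit false

namespace CfsgLib.HallGen.SympFourSpectrum

open Polynomial

variable {K M : Type} [Field K] [AddCommGroup M] [Module K M]

/-- The action of a group of invertible linear maps on the module written multiplicatively. -/
noncomputable def act (X : Subgroup (Module.End K M)ˣ) : ↥X →* MulAut (Multiplicative M) where
  toFun u := AddEquiv.toMultiplicative ((LinearMap.GeneralLinearGroup.toLinearEquiv u.1).toAddEquiv)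
  map_one' := rfl
  map_mul' _ _ := rfl

/-- The module extended by a group of invertible linear maps. -/
abbrev Sdp (X : Subgroup (Module.End K M)ˣ) := Multiplicative M ⋊[act X] ↥X

/-- The sum of the powers of an element up to its order. -/
noncomputable def norm {X : Subgroup (Module.End K M)ˣ} (g : ↥X) : Module.End K M :=
  ∑ i ∈ Finset.range (orderOf g), ((g.1 : (Module.End K M)ˣ) : Module.End K M) ^ i

variable {X : Subgroup (Module.End K M)ˣ}

theorem val_pow_orderOf (g : ↥X) :
    ((g.1 : (Module.End K M)ˣ) : Module.End K M) ^ orderOf g = 1 := by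
  rw [← Units.val_pow_eq_pow_val, ← Subgroup.coe_pow, pow_orderOf_eq_one]
  rfl

theorem exists_fixed_of_norm {g : ↥X} (h : norm g ≠ 0) :
    ∃ v, v ≠ 0 ∧ ((g.1 : (Module.End K M)ˣ) : Module.End K M) v = v := by
  obtain ⟨w, hw⟩ : ∃ w, norm g w ≠ 0 := by
    by_contra hh
    push_neg at hh
    exact h (LinearMap.ext hh)
  refine ⟨norm g w, hw, ?_⟩
  have h1 := mul_geom_sum ((g.1 : (Module.End K M)ˣ) : Module.End K M) (orderOf g)
  rw [val_pow_orderOf, sub_self] at h1
  exact sub_eq_zero.1 (LinearMap.congr_fun h1 w)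

theorem norm_ne_zero_of_fixed {p : ℕ} [CharP K p] {g : ↥X} {v : M} (hv : v ≠ 0)
    (hfix : ((g.1 : (Module.End K M)ˣ) : Module.End K M) v = v) (hp : ¬ p ∣ orderOf g) : norm g ≠ 0 := by
  intro h
  have hi : ∀ i : ℕ, (((g.1 : (Module.End K M)ˣ) : Module.End K M) ^ i) v = v := fun i => by
    induction i with
    | zero => rfl
    | succ i ih => rw [pow_succ, Module.End.mul_apply, hfix, ih]
  have h1 : norm g v = (orderOf g : K) • v := by
    simp [norm, hi, Nat.cast_smul_eq_nsmul]
  rw [h, LinearMap.zero_apply] at h1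
  exact hp ((CharP.cast_eq_zero_iff K p _).1 ((smul_eq_zero.1 h1.symm).resolve_right hv))

theorem geom_eq_pow (p : ℕ) [Fact p.Prime] [CharP K p] (T : Module.End K M) :
    ∑ i ∈ Finset.range p, T ^ i = (T - 1) ^ (p - 1) := by
  have h : (∑ i ∈ Finset.range p, (Polynomial.X : K[X]) ^ i) = (Polynomial.X - 1) ^ (p - 1) := by
    have hne : (Polynomial.X - 1 : K[X]) ≠ 0 := by
      simpa using Polynomial.X_sub_C_ne_zero (1 : K)
    refine mul_left_cancel₀ hne ?_
    rw [mul_geom_sum, ← pow_succ', Nat.sub_add_cancel (Fact.out : p.Prime).one_le, sub_pow_char, one_pow]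
  simpa using congrArg (Polynomial.aeval T) h

theorem sdp_pow (x : Sdp X) (k : ℕ) :
    (x ^ k).right = x.right ^ k ∧
      (x ^ k).left = Multiplicative.ofAdd
        ((∑ i ∈ Finset.range k, ((x.right.1 : (Module.End K M)ˣ) : Module.End K M) ^ i) x.left.toAdd) := by
  induction k with
  | zero => exact ⟨by simp, by simp⟩
  | succ k ih =>
    obtain ⟨h1, h2⟩ := ih
    refine ⟨by rw [pow_succ, SemidirectProduct.mul_right, h1, pow_succ], ?_⟩
    rw [pow_succ, SemidirectProduct.mul_left, h1, h2, Finset.sum_range_succ, LinearMap.add_apply, ofAdd_add]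
    congr 1

theorem exists_isospectral [Finite M] [Nontrivial M] (X : Subgroup (Module.End K M)ˣ) (p : ℕ) [Fact p.Prime]
    [CharP K p] (l : List ℕ) (hup : ∀ g : ↥X, Cov l (orderOf g) ∧ (norm g ≠ 0 → Cov l (p * orderOf g)))
    (hlow : ∀ a ∈ l, ∃ g : ↥X, a ∣ orderOf g ∨ (norm g ≠ 0 ∧ a ∣ p * orderOf g)) (N : ℕ) :
    ∃ (H : Type) (_ : Group H) (_ : Fintype H), N < Fintype.card H ∧
      Set.range (orderOf : H → ℕ) = {n | Cov l n} := by
  haveI : Finite (Module.End K M) := Finite.of_injective _ DFunLike.coe_injective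
  haveI : Finite (Module.End K M)ˣ := Finite.of_injective _ Units.val_injective
  haveI : Finite (Sdp X) := Finite.of_equiv _ SemidirectProduct.equivProd.symm
  have hp : p.Prime := Fact.out
  have horder : ∀ x : Sdp X,
      (norm x.right x.left.toAdd = 0 → orderOf x = orderOf x.right) ∧
      (norm x.right x.left.toAdd ≠ 0 → orderOf x = p * orderOf x.right) := by
    intro x
    obtain ⟨h1, h2⟩ := sdp_pow x (orderOf x.right)
    rw [pow_orderOf_eq_one] at h1
    have hdvd : orderOf x.right ∣ orderOf x := orderOf_map_dvd SemidirectProduct.rightHom x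
    refine ⟨fun h => Nat.dvd_antisymm (orderOf_dvd_of_pow_eq_one (SemidirectProduct.ext
      (by rw [h2]; show Multiplicative.ofAdd (norm x.right x.left.toAdd) = _; rw [h]; rfl) h1)) hdvd, fun h => ?_⟩
    obtain ⟨k, hk⟩ := hdvd
    have hnp : x ^ (orderOf x.right * p) = 1 := by
      have e : x ^ orderOf x.right = SemidirectProduct.inl (x ^ orderOf x.right).left :=
        SemidirectProduct.ext rfl h1
      rw [pow_mul, e, ← map_pow, ← map_one (SemidirectProduct.inl : Multiplicative M →* Sdp X)]
      congr 1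
      refine Multiplicative.toAdd.injective ?_
      rw [toAdd_pow, toAdd_one, ← Nat.cast_smul_eq_nsmul K, CharP.cast_eq_zero, zero_smul]
    have hk2 : k ∣ p := Nat.dvd_of_mul_dvd_mul_left (orderOf_pos x.right) (hk ▸ orderOf_dvd_of_pow_eq_one hnp)
    rcases (Nat.dvd_prime hp).1 hk2 with rfl | rfl
    · exfalso
      rw [mul_one] at hk
      refine h ?_
      have := congrArg SemidirectProduct.left (pow_orderOf_eq_one x)
      rw [hk, h2] at this
      exact Multiplicative.ofAdd.injective (this.trans ofAdd_zero.symm)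
    · rw [hk, mul_comm]
  have hrange : Set.range (orderOf : Sdp X → ℕ) = {n | Cov l n} := by
    refine Set.Subset.antisymm ?_ ?_
    · rintro _ ⟨x, rfl⟩
      obtain ⟨h0, h1⟩ := horder x
      obtain ⟨c0, c1⟩ := hup x.right
      by_cases h : norm x.right x.left.toAdd = 0
      · rw [h0 h]; exact c0
      · rw [h1 h]
        exact c1 fun hz => h (by rw [hz, LinearMap.zero_apply])
    · rintro n ⟨a, ha, hn⟩
      obtain ⟨y, hy⟩ : ∃ y : Sdp X, n ∣ orderOf y := by
        obtain ⟨g, hg | ⟨hne, hg⟩⟩ := hlow a ha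
        · exact ⟨SemidirectProduct.inr g, by rw [orderOf_injective _ SemidirectProduct.inr_injective]; exact hn.trans hg⟩
        · obtain ⟨v, hv⟩ : ∃ v, norm g v ≠ 0 := by
            by_contra hh
            push_neg at hh
            exact hne (LinearMap.ext hh)
          exact ⟨⟨Multiplicative.ofAdd v, g⟩, by
            rw [(horder ⟨Multiplicative.ofAdd v, g⟩).2 hv]; exact hn.trans hg⟩
      exact ⟨y ^ (orderOf y / n), orderOf_pow_orderOf_div (orderOf_pos y).ne' hy⟩
  let P := (SemidirectProduct.rightHom : Sdp X →* ↥X).ker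
  have hP : P = (SemidirectProduct.inl : _ →* Sdp X).range := SemidirectProduct.range_inl_eq_ker_rightHom.symm
  rw [← hrange]
  refine Cfsg.Agent.S3444.result P ?_ ?_ N
  · rw [hP]
    intro h
    obtain ⟨v, hv⟩ := exists_ne (0 : M)
    have h2 := DFunLike.congr_fun (MonoidHom.range_eq_bot_iff.1 h) (Multiplicative.ofAdd v)
    exact hv (Multiplicative.ofAdd.injective ((SemidirectProduct.inl_injective (h2.trans (map_one _).symm)).trans
      ofAdd_zero.symm))
  · rw [hP]
    exact Group.isSolvable_of_surjective (MonoidHom.rangeRestrict_surjective _)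

end CfsgLib.HallGen.SympFourSpectrum
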