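import Cfsg.Agent.Lib.HallGen.SympFourSpectrum.SLTwo
import Cfsg.Agent.Lib.HallGen.SympFourSpectrum.Sdp

/-!
# A sixteen-dimensional module for `SL(2, 9^{2i})` without stray fixed points
-/

set_option autoImplicit false

namespace CfsgLib.HallGen.SympFourSpectrum

open Matrix
open scoped Kronecker

variable {K : Type} [Field K]

local notation "SLK" => Matrix.SpecialLinearGroup (Fin 2) K
local notation "M4" => Matrix (Fin 2 × Fin 2) (Fin 2 × Fin 2) K

/-- The left factor. -/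
def kronL (c : K →+* K) (x : SLK) : M4 := x.1 ⊗ₖ x.1.map c

/-- The right factor. -/
def kronR (σ : K →+* K) (x : SLK) : M4 := ((x.1.map σ) ⊗ₖ (x.1.map σ))ᵀ

/-- The action `B ↦ (x ⊗ c x) B (σ x ⊗ σ x)ᵀ`. -/
noncomputable def tw3 (c σ : K →+* K) : SLK →* Module.End K M4 where
  toFun x := (LinearMap.mulLeft K (kronL c x)).comp (LinearMap.mulRight K (kronR σ x))
  map_one' := LinearMap.ext fun A => by simp [kronL, kronR, Matrix.one_kronecker_one]
  map_mul' x y := LinearMap.ext fun A => by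
    have h1 : kronL c (x * y) = kronL c x * kronL c y := by
      rw [kronL, kronL, kronL, Matrix.SpecialLinearGroup.coe_mul, Matrix.map_mul, Matrix.mul_kronecker_mul]
    have h2 : kronR σ (x * y) = kronR σ y * kronR σ x := by
      rw [kronR, kronR, kronR, Matrix.SpecialLinearGroup.coe_mul, Matrix.map_mul, Matrix.mul_kronecker_mul,
        Matrix.transpose_mul]
    simp [h1, h2, Matrix.mul_assoc]

variable (c σ : K →+* K)

theorem tw3_apply (x : SLK) (A : M4) : tw3 c σ x A = kronL c x * (A * kronR σ x) := rfl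

theorem tw3_pm {x : SLK} {k : ℕ} (h : x.1 ^ k = 1 ∨ x.1 ^ k = -1) : tw3 c σ x ^ k = 1 := by
  rw [← map_pow]
  refine LinearMap.ext fun A => ?_
  rw [tw3_apply, kronL, kronR, Matrix.SpecialLinearGroup.coe_pow]
  rcases h with h | h <;> rw [h]
  · simp [Matrix.one_kronecker_one]
  · have e : (-1 : Matrix (Fin 2) (Fin 2) K) = (-1 : K) • 1 := by rw [neg_one_smul]
    rw [Matrix.map_neg _ (map_neg c), Matrix.map_neg _ (map_neg σ), Matrix.map_one _ (map_zero c) (map_one c),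
      Matrix.map_one _ (map_zero σ) (map_one σ), e, Matrix.smul_kronecker, Matrix.kronecker_smul,
      Matrix.one_kronecker_one, smul_smul]
    simp

theorem tw3_eq_one (hc : Function.Injective c) {x : SLK} (h : tw3 c σ x = 1) : x.1 = 1 ∨ x.1 = -1 := by
  have h0 : ∀ A, kronL c x * (A * kronR σ x) = A := fun A => LinearMap.congr_fun h A
  have h1 : kronL c x * kronR σ x = 1 := by simpa using h0 1
  have h2 : kronR σ x * kronL c x = 1 := mul_eq_one_comm.1 h1
  have h3 : ∀ A, kronL c x * A = A * kronL c x := fun A => by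
    conv_rhs => rw [← h0 A]
    rw [Matrix.mul_assoc, Matrix.mul_assoc, h2, Matrix.mul_one]
  have hoff : ∀ i j : Fin 2 × Fin 2, i ≠ j → kronL c x i j = 0 := fun i j hij => by
    have h4 := congrFun (congrFun (h3 (Matrix.single j j 1)) i) j
    simpa [Matrix.mul_apply, Matrix.single_apply, hij, Ne.symm hij] using h4
  have hdiag : ∀ i j : Fin 2 × Fin 2, kronL c x i i = kronL c x j j := fun i j => by
    have h4 := congrFun (congrFun (h3 (Matrix.single i j 1)) i) j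
    simpa [Matrix.mul_apply, Matrix.single_apply] using h4
  have hd := x.det_coe
  rw [Matrix.det_fin_two] at hd
  have hzero : ∀ a : K, a * c a = 0 → a = 0 := fun a h => by
    rcases mul_eq_zero.1 h with h | h
    exacts [h, (map_eq_zero c).1 h]
  have h01 : x.1 0 1 = 0 := hzero _ (by simpa [kronL] using hoff (0, 0) (1, 1) (by decide))
  have h10 : x.1 1 0 = 0 := hzero _ (by simpa [kronL] using hoff (1, 1) (0, 0) (by decide))
  rw [h01, h10] at hd
  have h00 : x.1 0 0 ≠ 0 := fun h => by simp [h] at hd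
  have heq : x.1 0 0 = x.1 1 1 :=
    hc (mul_left_cancel₀ h00 (by simpa [kronL] using hdiag (0, 0) (0, 1)))
  rw [heq] at hd
  rcases sq_eq_one_iff.1 (show x.1 1 1 ^ 2 = 1 by linear_combination hd) with hh | hh <;> [left; right] <;>
    (ext i j; fin_cases i <;> fin_cases j <;> simp [h01, h10, heq, hh])

section Eigen

variable {L W : Type} [Field L] [AddCommGroup W] [Module L W]

/-- A common eigenvector can be improved for one more quadratic map. -/
theorem eig_step (U : Module.End L W) {a : L} (ha : a ≠ 0) (hU : ∀ v, U (U v) = (a + a⁻¹) • U v - v)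
    {v : W} (hv : v ≠ 0) :
    ∃ e : ℤ, (e = 1 ∨ e = -1) ∧ ∃ w, w ≠ 0 ∧ U w = (a ^ e) • w ∧
      ∀ (S : Module.End L W) (r : L), Commute S U → S v = r • v → S w = r • w := by
  by_cases h : U v = a⁻¹ • v
  · exact ⟨-1, Or.inr rfl, v, hv, by rwa [_root_.zpow_neg_one], fun _ _ _ hS => hS⟩
  refine ⟨1, Or.inl rfl, U v - a⁻¹ • v, sub_ne_zero.2 h, ?_, fun S r hc hS => ?_⟩
  · rw [map_sub, map_smul, hU, zpow_one, smul_sub, smul_smul, mul_inv_cancel₀ ha, one_smul, add_smul]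
    abel
  · have : S (U v) = U (S v) := LinearMap.congr_fun hc.eq v
    rw [map_sub, map_smul, this, hS, map_smul, smul_sub, smul_comm]

end Eigen

theorem arith {q i : ℕ} (hq : q = 9 ^ i) {o : ℕ} (ho : (o : ℤ) ∣ (q : ℤ) ^ 2 + 1 ∨ (o : ℤ) ∣ (q : ℤ) ^ 2 - 1)
    (hi : 1 ≤ i) {k j : ℤ} (hk : k = 1 ∨ k = -1 ∨ k = 2 ∨ k = -2) (hj : j = 0 ∨ j = 1 ∨ j = -1)
    (h : (o : ℤ) ∣ k + j * q) : o ∣ 2 ∨ o ∣ q + 1 ∨ o ∣ q - 1 := by
  have hq1 : 1 ≤ q := hq ▸ Nat.one_le_pow _ _ (by norm_num)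
  have h3 : (3 : ℤ) ∣ (q : ℤ) := by
    rw [hq]; push_cast; exact dvd_pow ⟨3, by norm_num⟩ (by omega)
  have conv : ∀ {z : ℤ}, (o : ℤ) ∣ z → ∀ {n : ℕ}, z.natAbs = n → o ∣ n := fun hz n hn => hn ▸ Int.natCast_dvd.1 hz
  rcases hj with rfl | hj
  · refine Or.inl ((conv h rfl).trans ?_)
    rcases hk with rfl | rfl | rfl | rfl <;> simp
  by_cases hk1 : k = 1 ∨ k = -1
  · have : ((o : ℤ) ∣ (q : ℤ) + 1) ∨ ((o : ℤ) ∣ (q : ℤ) - 1) := by
      rcases hj with rfl | rfl <;> rcases hk1 with rfl | rfl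
      · exact Or.inl (by simpa [add_comm] using h)
      · exact Or.inr (by simpa [sub_eq_add_neg, add_comm] using h)
      · exact Or.inr (by have := h.neg_right; simpa [sub_eq_add_neg, add_comm] using this)
      · exact Or.inl (by have := h.neg_right; simpa [add_comm] using this)
    exact Or.inr (this.imp (fun h => conv h (by omega)) (fun h => conv h (by omega)))
  have h4 : (o : ℤ) ∣ (q : ℤ) ^ 2 - 4 := by
    refine h.trans ?_
    rcases hj with rfl | rfl <;> rcases hk.resolve_left (fun e => hk1 (Or.inl e)) |>.resolve_left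
      (fun e => hk1 (Or.inr e)) with rfl | rfl
    · exact ⟨q - 2, by ring⟩
    · exact ⟨q + 2, by ring⟩
    · exact ⟨-(q : ℤ) - 2, by ring⟩
    · exact ⟨-(q : ℤ) + 2, by ring⟩
  rcases ho with ho | ho
  · have h5 : o ∣ 5 := conv (show (o : ℤ) ∣ 5 by have := dvd_sub ho h4; simpa using this) rfl
    have h6 : q % 5 = 1 ∨ q % 5 = 4 := by
      clear h4 ho h h3 hq1 hi conv
      subst hq
      induction i with
      | zero => simp
      | succ i ih => rw [pow_succ, Nat.mul_mod]; rcases ih with h | h <;> rw [h] <;> simp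
    refine Or.inr ?_
    rcases h6 with h6 | h6
    · exact Or.inr (h5.trans (by omega))
    · exact Or.inl (h5.trans (by omega))
  · have h5 : (o : ℤ) ∣ 3 := by have := dvd_sub ho h4; simpa using this
    rcases (Nat.dvd_prime Nat.prime_three).1 (conv h5 rfl) with rfl | rfl
    · exact Or.inl (one_dvd _)
    · exfalso
      have := dvd_sub (dvd_pow h3 (two_ne_zero : (2 : ℕ) ≠ 0)) ho
      norm_num at this

variable {c σ}

/-- Only elements of image order dividing `2` or `q ± 1` fix a nonzero vector. -/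
theorem fixed_order [CharP K 3] {m q i : ℕ} (hm : 1 ≤ m) (hi : 1 ≤ i) (hq : q = 3 ^ m) (hq9 : q = 9 ^ i)
    (hc : ∀ a, c a = a ^ 3) (hσ : ∀ a, σ a = a ^ q) [Fintype K] (hK : Fintype.card K = q ^ 2) (x : SLK)
    (ht : x.1.trace ^ 2 ≠ 4) {B : M4} (hB : B ≠ 0) (hfix : tw3 c σ x B = B) :
    ∃ d, (d ∣ 2 ∨ d ∣ q + 1 ∨ d ∣ q - 1) ∧ tw3 c σ x ^ d = 1 := by
  haveI : Fact (Nat.Prime 3) := ⟨Nat.prime_three⟩
  let L := AlgebraicClosure K
  haveI : CharP L 3 := charP_of_injective_algebraMap (algebraMap K L).injective 3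
  let f := algebraMap K L
  set t := x.1.trace with htdef
  obtain ⟨lam, hlam⟩ := exists_root (f t)
  obtain ⟨hl0, hlt, -⟩ := quad_eq hlam
  have ht4 : f t ^ 2 ≠ 4 := fun h => ht (f.injective (by rw [map_pow, h, map_ofNat]))
  obtain ⟨N, hN, -, e, he, hd⟩ := quad_dvd (L := L) (p := 3) (m := m * 2) (by omega) (Q := q ^ 2)
    (by rw [hq, ← pow_mul]) (t := f t) (by rw [← map_pow, ← hK, FiniteField.pow_card]) ht4
  have hlN : lam ^ (N / half 3) = e := by
    obtain ⟨r, hr⟩ := hd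
    have h1 := congrArg (Polynomial.eval lam) hr
    simp only [Polynomial.eval_sub, Polynomial.eval_pow, Polynomial.eval_X, Polynomial.eval_C, Polynomial.eval_mul,
      quad, Polynomial.eval_add, Polynomial.eval_one, hlam, zero_mul] at h1
    exact sub_eq_zero.1 h1
  let M4L := Matrix (Fin 2 × Fin 2) (Fin 2 × Fin 2) L
  let y : Matrix (Fin 2) (Fin 2) L := x.1.map f
  let y2 : Matrix (Fin 2) (Fin 2) L := (x.1.map c).map f
  let y3 : Matrix (Fin 2) (Fin 2) L := (x.1.map σ).map f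
  have hy : ∀ g : K →+* L, x.1.map g * x.1.map g = g t • x.1.map g - 1 := fun g => by
    rw [← Matrix.map_mul, sl_ch, Matrix.map_sub _ (map_sub g), Matrix.map_smul' _ t _ (map_mul g),
      Matrix.map_one _ (map_zero g) (map_one g)]
  have hy1 : y * y = (lam + lam⁻¹) • y - 1 := by rw [← hlt]; exact hy f
  have hy2 : y2 * y2 = (lam ^ 3 + (lam ^ 3)⁻¹) • y2 - 1 := by
    have := hy (f.comp c)
    rw [RingHom.comp_apply, hc, map_pow, hlt, add_pow_char, inv_pow] at this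
    simpa [y2, Matrix.map_map, RingHom.coe_comp] using this
  have hy3 : y3 * y3 = (lam ^ q + (lam ^ q)⁻¹) • y3 - 1 := by
    have := hy (f.comp σ)
    rw [RingHom.comp_apply, hσ, map_pow, hlt, hq, add_pow_char_pow, inv_pow, ← hq] at this
    simpa [y3, Matrix.map_map, RingHom.coe_comp] using this
  have kl : ∀ {z : Matrix (Fin 2) (Fin 2) L} {s : L}, z * z = s • z - 1 →
      (z ⊗ₖ (1 : Matrix (Fin 2) (Fin 2) L)) * (z ⊗ₖ 1) = s • (z ⊗ₖ 1) - 1 := fun {z s} h => by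
    rw [← Matrix.mul_kronecker_mul, h, Matrix.mul_one, eq_sub_iff_add_eq, ← Matrix.one_kronecker_one,
      ← Matrix.add_kronecker, sub_add_cancel, Matrix.smul_kronecker]
  have kr : ∀ {z : Matrix (Fin 2) (Fin 2) L} {s : L}, z * z = s • z - 1 →
      ((1 : Matrix (Fin 2) (Fin 2) L) ⊗ₖ z) * (1 ⊗ₖ z) = s • (1 ⊗ₖ z) - 1 := fun {z s} h => by
    rw [← Matrix.mul_kronecker_mul, h, Matrix.mul_one, eq_sub_iff_add_eq, ← Matrix.one_kronecker_one,
      ← Matrix.kronecker_add, sub_add_cancel, Matrix.kronecker_smul]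
  let P1 : M4L := y ⊗ₖ 1
  let P2 : M4L := 1 ⊗ₖ y2
  let R3 : M4L := (y3 ⊗ₖ 1)ᵀ
  let R4 : M4L := (1 ⊗ₖ y3)ᵀ
  have hP : Commute P1 P2 := by
    show y ⊗ₖ 1 * (1 ⊗ₖ y2) = 1 ⊗ₖ y2 * (y ⊗ₖ 1)
    rw [← Matrix.mul_kronecker_mul, ← Matrix.mul_kronecker_mul]; simp
  have hR : Commute R3 R4 := by
    show (y3 ⊗ₖ 1)ᵀ * (1 ⊗ₖ y3)ᵀ = (1 ⊗ₖ y3)ᵀ * (y3 ⊗ₖ 1)ᵀ
    rw [← Matrix.transpose_mul, ← Matrix.transpose_mul, ← Matrix.mul_kronecker_mul, ← Matrix.mul_kronecker_mul]; simp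
  let A1 : Module.End L M4L := LinearMap.mulLeft L P1
  let A2 : Module.End L M4L := LinearMap.mulLeft L P2
  let A3 : Module.End L M4L := LinearMap.mulRight L R3
  let A4 : Module.End L M4L := LinearMap.mulRight L R4
  have hu1 : ∀ v, A1 (A1 v) = (lam + lam⁻¹) • A1 v - v := fun v => by
    show P1 * (P1 * v) = _ • (P1 * v) - v
    rw [← Matrix.mul_assoc, kl hy1, Matrix.sub_mul, Matrix.smul_mul, Matrix.one_mul]
  have hu2 : ∀ v, A2 (A2 v) = (lam ^ 3 + (lam ^ 3)⁻¹) • A2 v - v := fun v => by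
    show P2 * (P2 * v) = _ • (P2 * v) - v
    rw [← Matrix.mul_assoc, kr hy2, Matrix.sub_mul, Matrix.smul_mul, Matrix.one_mul]
  have hu3 : ∀ v, A3 (A3 v) = (lam ^ q + (lam ^ q)⁻¹) • A3 v - v := fun v => by
    show v * R3 * R3 = _ • (v * R3) - v
    rw [Matrix.mul_assoc, ← Matrix.transpose_mul, kl hy3, Matrix.transpose_sub, Matrix.transpose_smul,
      Matrix.transpose_one, Matrix.mul_sub, Matrix.mul_smul, Matrix.mul_one]
  have hu4 : ∀ v, A4 (A4 v) = (lam ^ q + (lam ^ q)⁻¹) • A4 v - v := fun v => by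
    show v * R4 * R4 = _ • (v * R4) - v
    rw [Matrix.mul_assoc, ← Matrix.transpose_mul, kr hy3, Matrix.transpose_sub, Matrix.transpose_smul,
      Matrix.transpose_one, Matrix.mul_sub, Matrix.mul_smul, Matrix.mul_one]
  have c12 : Commute A1 A2 := LinearMap.ext fun v => by
    show P1 * (P2 * v) = P2 * (P1 * v); rw [← Matrix.mul_assoc, hP.eq, Matrix.mul_assoc]
  have c34 : Commute A3 A4 := LinearMap.ext fun v => by
    show v * R4 * R3 = v * R3 * R4; rw [Matrix.mul_assoc, ← hR.eq, Matrix.mul_assoc]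
  have c13 : Commute A1 A3 := LinearMap.ext fun v => (Matrix.mul_assoc P1 v R3).symm
  have c14 : Commute A1 A4 := LinearMap.ext fun v => (Matrix.mul_assoc P1 v R4).symm
  have c23 : Commute A2 A3 := LinearMap.ext fun v => (Matrix.mul_assoc P2 v R3).symm
  have c24 : Commute A2 A4 := LinearMap.ext fun v => (Matrix.mul_assoc P2 v R4).symm
  set T : Module.End L M4L := A1 * A2 * (A3 * A4) with hT
  have cT : ∀ U : Module.End L M4L, Commute A1 U → Commute A2 U → Commute A3 U → Commute A4 U → Commute T U :=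
    fun U h1 h2 h3 h4 => (h1.mul_left h2).mul_left (h3.mul_left h4)
  have hBL : T (B.map f) = (1 : L) • B.map f := by
    have h1 : T (B.map f) = P1 * (P2 * (B.map f * R4 * R3)) := rfl
    have h2 : (tw3 c σ x B).map f = B.map f := by rw [hfix]
    rw [tw3_apply, Matrix.map_mul, Matrix.map_mul] at h2
    have e1 : (kronL c x).map f = P1 * P2 := by
      show _ = y ⊗ₖ 1 * (1 ⊗ₖ y2)
      rw [← Matrix.mul_kronecker_mul, Matrix.mul_one, Matrix.one_mul]
      ext ⟨a, b⟩ ⟨a', b'⟩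
      simp [kronL, y, y2]
    have e2 : (kronR σ x).map f = R4 * R3 := by
      show _ = (1 ⊗ₖ y3)ᵀ * (y3 ⊗ₖ 1)ᵀ
      rw [← Matrix.transpose_mul, ← Matrix.mul_kronecker_mul, Matrix.mul_one, Matrix.one_mul]
      ext ⟨a, b⟩ ⟨a', b'⟩
      simp [kronR, y3]
    rw [e1, e2] at h2
    rw [h1, one_smul]
    conv_rhs => rw [← h2]
    rw [Matrix.mul_assoc P1 P2, Matrix.mul_assoc (B.map f) R4 R3]
  have hB0 : B.map f ≠ 0 := fun h => hB (Matrix.map_injective f.injective
    (h.trans (Matrix.map_zero _ (map_zero f)).symm))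
  obtain ⟨e1, he1, w1, hw1, h11, k1⟩ := eig_step A1 hl0 hu1 hB0
  obtain ⟨e2, he2, w2, hw2, h22, k2⟩ := eig_step A2 (pow_ne_zero _ hl0) hu2 hw1
  obtain ⟨e3, he3, w3, hw3, h33, k3⟩ := eig_step A3 (pow_ne_zero _ hl0) hu3 hw2
  obtain ⟨e4, he4, w4, hw4, h44, k4⟩ := eig_step A4 (pow_ne_zero _ hl0) hu4 hw3
  have a1 : A1 w4 = lam ^ e1 • w4 := k4 _ _ c14 (k3 _ _ c13 (k2 _ _ c12 h11))
  have a2 : A2 w4 = (lam ^ 3) ^ e2 • w4 := k4 _ _ c24 (k3 _ _ c23 h22)
  have a3 : A3 w4 = (lam ^ q) ^ e3 • w4 := k4 _ _ c34 h33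
  have aT : T w4 = (1 : L) • w4 := k4 _ _ (cT A4 c14 c24 c34 (Commute.refl _))
    (k3 _ _ (cT A3 c13 c23 (Commute.refl _) c34.symm)
      (k2 _ _ (cT A2 c12 (Commute.refl _) c23.symm c24.symm)
        (k1 _ _ (cT A1 (Commute.refl _) c12.symm c13.symm c14.symm) hBL)))
  have hprod : (lam ^ q) ^ e4 * ((lam ^ q) ^ e3 * ((lam ^ 3) ^ e2 * lam ^ e1)) = 1 := by
    refine smul_left_injective L hw4 ?_
    show _ • w4 = (1 : L) • w4
    rw [← aT, hT, Module.End.mul_apply, Module.End.mul_apply, Module.End.mul_apply, h44, map_smul, a3, map_smul,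
      map_smul, map_smul, map_smul, a2, map_smul, a1, smul_smul, smul_smul, smul_smul, mul_assoc, mul_assoc]
  set o := orderOf (Units.mk0 lam hl0 ^ 2) with ho
  have hon : o ∣ N / half 3 := by
    refine orderOf_dvd_of_pow_eq_one (Units.ext ?_)
    rw [← pow_mul, mul_comm, pow_mul, Units.val_pow_eq_pow_val, Units.val_pow_eq_pow_val, Units.val_mk0,
      Units.val_one, hlN]
    exact sq_eq_one_iff.2 he
  have hoz : (o : ℤ) ∣ (q : ℤ) ^ 2 + 1 ∨ (o : ℤ) ∣ (q : ℤ) ^ 2 - 1 := by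
    have h1 : o ∣ N := hon.trans (Nat.div_dvd_of_dvd (half_dvd (m * 2) (by omega) (by rw [hq, ← pow_mul]) hN))
    have hz := Int.natCast_dvd_natCast.2 h1
    rcases hN with rfl | rfl
    · exact Or.inl (by simpa using hz)
    · refine Or.inr ?_
      rwa [Nat.cast_sub (Nat.one_le_pow _ _ (hq ▸ pow_pos (by norm_num) m)), Nat.cast_pow, Nat.cast_one] at hz
  obtain ⟨k, j, hk, hj, hkj⟩ : ∃ k j : ℤ, (k = 1 ∨ k = -1 ∨ k = 2 ∨ k = -2) ∧ (j = 0 ∨ j = 1 ∨ j = -1) ∧
      2 * (k + j * q) = (q : ℤ) * e4 + ((q : ℤ) * e3 + (3 * e2 + e1)) := by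
    rcases he1 with rfl | rfl <;> rcases he2 with rfl | rfl <;> rcases he3 with rfl | rfl <;>
      rcases he4 with rfl | rfl
    exacts [⟨2, 1, by simp, by simp, by ring⟩, ⟨2, 0, by simp, by simp, by ring⟩, ⟨2, 0, by simp, by simp, by ring⟩,
      ⟨2, -1, by simp, by simp, by ring⟩, ⟨-1, 1, by simp, by simp, by ring⟩, ⟨-1, 0, by simp, by simp, by ring⟩,
      ⟨-1, 0, by simp, by simp, by ring⟩, ⟨-1, -1, by simp, by simp, by ring⟩, ⟨1, 1, by simp, by simp, by ring⟩,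
      ⟨1, 0, by simp, by simp, by ring⟩, ⟨1, 0, by simp, by simp, by ring⟩, ⟨1, -1, by simp, by simp, by ring⟩,
      ⟨-2, 1, by simp, by simp, by ring⟩, ⟨-2, 0, by simp, by simp, by ring⟩, ⟨-2, 0, by simp, by simp, by ring⟩,
      ⟨-2, -1, by simp, by simp, by ring⟩]
  have hdiv : (o : ℤ) ∣ k + j * q := by
    refine orderOf_dvd_iff_zpow_eq_one.2 (Units.ext ?_)
    rw [← zpow_natCast, ← _root_.zpow_mul, Nat.cast_ofNat, hkj, Units.val_zpow_eq_zpow_val, Units.val_mk0, Units.val_one,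
      zpow_add₀ hl0, zpow_add₀ hl0, zpow_add₀ hl0, _root_.zpow_mul, _root_.zpow_mul, _root_.zpow_mul]
    simp only [zpow_natCast]
    exact_mod_cast hprod
  refine ⟨o, arith hq9 hoz hi hk hj hdiv, ?_⟩
  have h2o : lam ^ (2 * o) = 1 := by
    rw [pow_mul]
    have h := congrArg Units.val (pow_orderOf_eq_one (Units.mk0 lam hl0 ^ 2))
    rw [Units.val_pow_eq_pow_val, Units.val_pow_eq_pow_val, Units.val_one, Units.val_mk0] at h
    exact h
  refine tw3_pm c σ (pow_of_dvd f x.1 (c := lam ^ o)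
    (sq_eq_one_iff.1 (by rw [← pow_mul, mul_comm, h2o])) ?_)
  have := quad_dvd_of_root hlam ht4 h2o
  rw [sl_charpoly]
  simpa [quad, f, htdef] using this

end CfsgLib.HallGen.SympFourSpectrum
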