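import Cfsg.Agent.Lib.HallGen.SympFourSpectrum.Three

/-!
# A split extension with the spectrum of `PSp(4, 9^i)`
-/

set_option autoImplicit false

namespace CfsgLib.HallGen.SympFourSpectrum

open Matrix
open scoped Kronecker

variable {K : Type} [Field K] [Fintype K] [CharP K 3]

local notation "SLK" => Matrix.SpecialLinearGroup (Fin 2) K
local notation "M4" => Matrix (Fin 2 × Fin 2) (Fin 2 × Fin 2) K

theorem exists_isospectral_three {c σ : K →+* K} {m q i : ℕ} (hm : 1 ≤ m) (hi : 1 ≤ i) (hq : q = 3 ^ m)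
    (hq9 : q = 9 ^ i) (hc : ∀ a, c a = a ^ 3) (hσ : ∀ a, σ a = a ^ q) (hK : Fintype.card K = q ^ 2) (N : ℕ) :
    ∃ (H : Type) (_ : Group H) (_ : Fintype H), N < Fintype.card H ∧
      Set.range (orderOf : H → ℕ) = {n | Cov (specList 3 q) n} := by
  haveI : Fact (Nat.Prime 3) := ⟨Nat.prime_three⟩
  have hh : half 3 = 2 := rfl
  have htop : top 3 = 9 := rfl
  set X : Subgroup (Module.End K M4)ˣ := (tw3 c σ).toHomUnits.range with hX
  have hval : ∀ (x : SLK) (g : ↥X), (g.1 : Module.End K M4) = tw3 c σ x → ∀ k, tw3 c σ x ^ k = 1 →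
      orderOf g ∣ k := by
    intro x g hg k hk
    refine orderOf_dvd_of_pow_eq_one (Subtype.ext (Units.ext ?_))
    rw [Subgroup.coe_pow, Units.val_pow_eq_pow_val, hg, hk]
    rfl
  have hker : ∀ (x : SLK) (g : ↥X), (g.1 : Module.End K M4) = tw3 c σ x →
      (x ^ orderOf g).1 = 1 ∨ (x ^ orderOf g).1 = -1 := by
    intro x g hg
    refine tw3_eq_one c σ c.injective ?_
    rw [map_pow, ← hg]
    exact val_pow_orderOf g
  have hodd : Odd q := hq ▸ (Nat.prime_three.odd_of_ne_two (by norm_num)).pow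
  refine exists_isospectral X 3 _ ?_ ?_ N
  · rintro ⟨u, x, rfl⟩
    set g : ↥X := ⟨_, x, rfl⟩
    have hg : (g.1 : Module.End K M4) = tw3 c σ x := rfl
    by_cases ht : x.1.trace ^ 2 = 4
    · have hd := hval x g hg 3 (tw3_pm c σ (sl_pow_prime x ht))
      exact ⟨cov_top.mono (hd.trans (by rw [htop]; norm_num)),
        fun _ => cov_top.mono (by rw [htop]; exact Nat.mul_dvd_mul_left 3 hd)⟩
    obtain ⟨M, hM, h⟩ := sl_pow x (p := 3) (m := m * 2) (Q := q ^ 2) (by omega) (by rw [hq, ← pow_mul])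
      (by rw [← hK, FiniteField.pow_card]) ht
    refine ⟨(cov_square hM).mono (hval x g hg _ (tw3_pm c σ h)), fun hne => ?_⟩
    obtain ⟨B, hB, hfix⟩ := exists_fixed_of_norm hne
    obtain ⟨d, hd, hpow⟩ := fixed_order hm hi hq hq9 hc hσ hK x ht hB (hg ▸ hfix)
    have hgd := hval x g hg d hpow
    rcases hd with hd | hd | hd
    · refine (cov_mul (p := 3) (Or.inl rfl : q + 1 = q + 1 ∨ _ = q - 1)).mono
        (Nat.mul_dvd_mul_left 3 ((hgd.trans hd).trans ?_))
      obtain ⟨e, he⟩ := hodd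
      omega
    · exact (cov_mul (Or.inl rfl)).mono (Nat.mul_dvd_mul_left 3 (hgd.trans hd))
    · exact (cov_mul (Or.inr rfl)).mono (Nat.mul_dvd_mul_left 3 (hgd.trans hd))
  · have hsq : ∀ M, (M = q ^ 2 + 1 ∨ M = q ^ 2 - 1) → ∃ g : ↥X, M / half 3 ∣ orderOf g := by
      intro M hM
      obtain ⟨x, hx⟩ := exists_order (K := K) (N := M) (by rwa [hK])
      refine ⟨⟨(tw3 c σ).toHomUnits x, x, rfl⟩, ?_⟩
      set g : ↥X := ⟨(tw3 c σ).toHomUnits x, x, rfl⟩
      have h2 : x ^ (orderOf g * 2) = 1 := by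
        refine Subtype.ext ?_
        rw [pow_mul, Matrix.SpecialLinearGroup.coe_pow]
        rcases hker x g rfl with h | h <;> rw [h] <;> simp
      obtain ⟨e, he⟩ : 2 ∣ M := by
        obtain ⟨e, he⟩ := hodd.pow (n := 2)
        omega
      have h3 := hx ▸ orderOf_dvd_of_pow_eq_one h2
      rw [he, mul_comm (orderOf g)] at h3
      rw [hh, he, Nat.mul_div_cancel_left _ two_pos]
      exact Nat.dvd_of_mul_dvd_mul_left two_pos h3
    have hmul : ∀ (M : ℕ) (lam : Kˣ) (a b : Fin 2 × Fin 2), orderOf lam = 2 * M → ¬ 3 ∣ M →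
        tw3 c σ (diagU lam) (Matrix.single a b 1) = Matrix.single a b 1 →
        ∃ g : ↥X, 3 * M ∣ orderOf g ∨ (norm g ≠ 0 ∧ 3 * M ∣ 3 * orderOf g) := by
      intro M lam a b hlam hM3 hfix
      refine ⟨⟨(tw3 c σ).toHomUnits (diagU lam), _, rfl⟩, ?_⟩
      set g : ↥X := ⟨(tw3 c σ).toHomUnits (diagU lam), _, rfl⟩
      have h1 := hker (diagU lam) g rfl
      rw [Matrix.SpecialLinearGroup.coe_pow] at h1
      have hMn : M ∣ orderOf g :=
        Nat.dvd_of_mul_dvd_mul_left two_pos (hlam ▸ orderOf_dvd_of_pow_eq_one (two_mul_of_diag_pow h1))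
      by_cases h3 : 3 ∣ orderOf g
      · exact Or.inl ((Nat.prime_three.coprime_iff_not_dvd.2 hM3).mul_dvd_of_dvd_of_dvd h3 hMn)
      · refine Or.inr ⟨norm_ne_zero_of_fixed (v := Matrix.single a b (1 : K)) (fun h => ?_) hfix h3,
          Nat.mul_dvd_mul_left 3 hMn⟩
        simpa [Matrix.single_apply] using congrFun (congrFun h a) b
    have h3q : 3 ∣ q := hq ▸ dvd_pow_self 3 (by omega)
    have hq1 : 1 ≤ q := by obtain ⟨e, he⟩ := hodd; omega
    obtain ⟨ζ, hζ⟩ := IsCyclic.exists_ofOrder_eq_natCard (α := Kˣ)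
    rw [Nat.card_units, Nat.card_eq_fintype_card, hK,
      show q ^ 2 - 1 = (q + 1) * (q - 1) by rw [← Nat.sq_sub_sq, one_pow]] at hζ
    obtain ⟨r, hr⟩ : ∃ r, q = 2 * r + 1 := hodd
    have hdiag : ∀ (lam : Kˣ) (i j : Fin 2 × Fin 2),
        tw3 c σ (diagU lam) (Matrix.single i j 1) =
          ((diagU lam).1 i.1 i.1 * c ((diagU lam).1 i.2 i.2) *
            (σ ((diagU lam).1 j.1 j.1) * σ ((diagU lam).1 j.2 j.2))) • Matrix.single i j (1 : K) := by
      intro lam i j
      have e : (diagU lam).1 = Matrix.diagonal fun k => (diagU lam).1 k k := by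
        ext k l; fin_cases k <;> fin_cases l <;> simp [diagU_val]
      generalize (fun k => (diagU lam).1 k k) = d at e
      rw [tw3_apply, kronL, kronR, e]
      simp only [Matrix.diagonal_map (map_zero c), Matrix.diagonal_map (map_zero σ),
        Matrix.diagonal_kronecker_diagonal, Matrix.diagonal_transpose, Matrix.diagonal_apply_eq]
      ext k l
      simp only [Matrix.diagonal_mul, Matrix.mul_diagonal, Matrix.smul_apply, Matrix.single_apply, smul_eq_mul]
      split_ifs with h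
      · obtain ⟨rfl, rfl⟩ := h
        simp
      · simp
    simp only [specList, List.mem_cons, List.not_mem_nil, or_false]
    rintro a (rfl | rfl | rfl | rfl | rfl)
    · exact (hsq _ (Or.inl rfl)).imp fun _ h => Or.inl h
    · exact (hsq _ (Or.inr rfl)).imp fun _ h => Or.inl h
    · have hdvd : q + 1 ∣ (q + 1) * (q - 1) := dvd_mul_right _ _
      have ho : orderOf (ζ ^ r) = 2 * (q + 1) := by
        rw [orderOf_pow' _ (by omega), hζ, show q - 1 = 2 * r by omega,
          show (q + 1) * (2 * r) = r * (2 * (q + 1)) by ring, Nat.gcd_mul_right_left,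
          Nat.mul_div_cancel_left _ (by omega)]
      refine hmul (q + 1) _ (1, 0) (0, 0) ho (fun h => by omega) ?_
      rw [hdiag]
      have hl : ((ζ ^ r : Kˣ) : K) ^ (2 + 2 * q) = 1 := by
        rw [← Units.val_pow_eq_pow_val, show 2 + 2 * q = 2 * (q + 1) by ring, ← ho, pow_orderOf_eq_one,
          Units.val_one]
      have hv : ((ζ ^ r : Kˣ) : K) ≠ 0 := (ζ ^ r).ne_zero
      have e : ((ζ ^ r : Kˣ) : K)⁻¹ * ((ζ ^ r : Kˣ) : K) ^ 3 * (((ζ ^ r : Kˣ) : K) ^ q * ((ζ ^ r : Kˣ) : K) ^ q) = 1 := by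
        rw [show ((ζ ^ r : Kˣ) : K)⁻¹ * ((ζ ^ r : Kˣ) : K) ^ 3 = ((ζ ^ r : Kˣ) : K) ^ 2 by field_simp, ← pow_add,
          ← pow_add, show 2 + (q + q) = 2 + 2 * q by ring, hl]
      simp only [diagU_val, hc, hσ, Units.val_inv_eq_inv_val]
      simp [-Units.val_pow_eq_pow_val, e]
    · have ho : orderOf (ζ ^ (r + 1)) = 2 * (q - 1) := by
        rw [orderOf_pow' _ (by omega), hζ, show q + 1 = 2 * (r + 1) by omega,
          show 2 * (r + 1) * (q - 1) = (r + 1) * (2 * (q - 1)) by ring, Nat.gcd_mul_right_left,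
          Nat.mul_div_cancel_left _ (by omega)]
      refine hmul (q - 1) _ (0, 1) (0, 0) ho (fun h => by omega) ?_
      rw [hdiag]
      have hl : ((ζ ^ (r + 1) : Kˣ) : K) ^ (2 * (q - 1)) = 1 := by
        rw [← Units.val_pow_eq_pow_val, ← ho, pow_orderOf_eq_one, Units.val_one]
      have hv : ((ζ ^ (r + 1) : Kˣ) : K) ≠ 0 := (ζ ^ (r + 1)).ne_zero
      have hl2 : ((ζ ^ (r + 1) : Kˣ) : K) ^ q * ((ζ ^ (r + 1) : Kˣ) : K) ^ q = ((ζ ^ (r + 1) : Kˣ) : K) ^ 2 := by
        rw [← pow_add, show q + q = 2 * (q - 1) + 2 by omega, pow_add, hl, one_mul]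
      have e : ((ζ ^ (r + 1) : Kˣ) : K) * (((ζ ^ (r + 1) : Kˣ) : K) ^ 3)⁻¹ *
          (((ζ ^ (r + 1) : Kˣ) : K) ^ q * ((ζ ^ (r + 1) : Kˣ) : K) ^ q) = 1 := by
        rw [hl2]
        field_simp
      simp only [diagU_val, hc, hσ, Units.val_inv_eq_inv_val]
      simp [-Units.val_pow_eq_pow_val, e]
    · have hn : orderOf (⟨(tw3 c σ).toHomUnits (shear K), _, rfl⟩ : ↥X) = 3 := by
        refine orderOf_eq_prime (Subtype.ext (Units.ext (tw3_pm c σ (sl_pow_prime (p := 3) (shear K) shear_trace)))) ?_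
        intro h
        rcases tw3_eq_one c σ c.injective (congrArg (fun g : ↥X => (g.1 : Module.End K M4)) h) with h1 | h1 <;>
          simpa [shear_val] using congrFun (congrFun h1 0) 1
      refine ⟨⟨(tw3 c σ).toHomUnits (shear K), _, rfl⟩, Or.inr ⟨fun h => ?_, by rw [hn, htop]⟩⟩
      have h1 := LinearMap.congr_fun h (Matrix.single ((1, 1) : Fin 2 × Fin 2) ((0, 0) : Fin 2 × Fin 2) (1 : K))
      rw [norm, hn, Finset.sum_range_succ, Finset.sum_range_succ, Finset.sum_range_one] at h1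
      simp only [LinearMap.add_apply, LinearMap.zero_apply, MonoidHom.coe_toHomUnits, pow_zero, pow_one, pow_two,
        Module.End.one_apply, Module.End.mul_apply, tw3_apply] at h1
      have h2 := congrFun (congrFun h1 ((0, 0) : Fin 2 × Fin 2)) ((0, 0) : Fin 2 × Fin 2)
      simp [Matrix.mul_apply, Fintype.sum_prod_type, Fin.sum_univ_two, kronL, kronR, shear_val,
        Matrix.single_apply] at h2
      have h33 : (3 : K) = 0 := by exact_mod_cast CharP.cast_eq_zero K 3
      exact one_ne_zero (show (1 : K) = 0 by linear_combination 2 * h33 - h2)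

end CfsgLib.HallGen.SympFourSpectrum
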