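import Cfsg.Agent.Lib.HallGen.SympFourSpectrum.SLTwo
import Cfsg.Agent.Lib.HallGen.SympFourSpectrum.Sdp

/-!
# `SL(2, q²)` on two-by-two matrices, twisted by the field automorphism of order two
-/

set_option autoImplicit false

namespace CfsgLib.HallGen.SympFourSpectrum

open Matrix

variable {K : Type} [Field K]

local notation "SLK" => Matrix.SpecialLinearGroup (Fin 2) K
local notation "M2" => Matrix (Fin 2) (Fin 2) K

/-- The action `A ↦ x A (σ x)ᵀ`. -/
noncomputable def tw (σ : K →+* K) : SLK →* Module.End K M2 where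
  toFun x := (LinearMap.mulLeft K x.1).comp (LinearMap.mulRight K (x.1.map σ)ᵀ)
  map_one' := LinearMap.ext fun A => by simp
  map_mul' x y := LinearMap.ext fun A => by
    simp [Matrix.map_mul, Matrix.transpose_mul, Matrix.mul_assoc]

/-- Transposition. -/
noncomputable def flip2 (K : Type) [Field K] : Module.End K (Matrix (Fin 2) (Fin 2) K) :=
  (Matrix.transposeLinearEquiv (Fin 2) (Fin 2) K K).toLinearMap

theorem flip2_apply (A : M2) : flip2 K A = Aᵀ := rfl

variable (σ : K →+* K)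

theorem tw_apply (x : SLK) (A : M2) : tw σ x A = x.1 * (A * (x.1.map σ)ᵀ) := rfl

theorem tw_pm {x : SLK} {k : ℕ} (h : x.1 ^ k = 1 ∨ x.1 ^ k = -1) : tw σ x ^ k = 1 := by
  rw [← map_pow]
  refine LinearMap.ext fun A => ?_
  rw [tw_apply, Matrix.SpecialLinearGroup.coe_pow]
  rcases h with h | h <;> rw [h] <;> simp [Matrix.map_neg _ (map_neg σ)]

/-- A fixed vector makes the trace fixed by `σ`. -/
theorem trace_fixed {x : SLK} {A : M2} (hA : A ≠ 0) (h : tw σ x A = A) : σ x.1.trace = x.1.trace := by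
  set z : SLK := (Matrix.SpecialLinearGroup.map σ x).transpose with hz
  have hzv : z.1 = (x.1.map σ)ᵀ := rfl
  have hzt : z.1.trace = σ x.1.trace := by rw [hzv, Matrix.trace_transpose, AddMonoidHom.map_trace]
  set w : SLK := z⁻¹
  have hwz : w.1 * z.1 = 1 := congrArg Subtype.val (inv_mul_cancel z)
  have hzw : z.1 * w.1 = 1 := congrArg Subtype.val (mul_inv_cancel z)
  have h1 : x.1 * A = A * w.1 := by
    rw [tw_apply, ← hzv] at h
    conv_rhs => rw [← h]
    rw [Matrix.mul_assoc, Matrix.mul_assoc, hzw, Matrix.mul_one]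
  have hwt : w.1.trace = z.1.trace := by
    rw [show w.1 = (z⁻¹ : SLK).1 from rfl, Matrix.SpecialLinearGroup.coe_inv, Matrix.adjugate_fin_two,
      Matrix.trace_fin_two_of, Matrix.trace_fin_two, add_comm]
  by_contra hne
  refine hA ?_
  have h2 : (x.1.trace • x.1 - 1) * A = A * (w.1.trace • w.1 - 1) := by
    rw [← sl_ch, ← sl_ch, Matrix.mul_assoc, h1, ← Matrix.mul_assoc, h1, Matrix.mul_assoc]
  rw [Matrix.sub_mul, Matrix.mul_sub, Matrix.one_mul, Matrix.mul_one, Matrix.smul_mul, h1, Matrix.mul_smul,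
    sub_left_inj, hwt, hzt] at h2
  have h3 : A * w.1 = 0 := by
    by_contra h0
    exact hne (smul_left_injective K h0 h2).symm
  have h4 := congrArg (· * z.1) h3
  simpa [Matrix.mul_assoc, hwz] using h4

theorem tw_eq_one {x : SLK} (h : tw σ x = 1) : x.1 = 1 ∨ x.1 = -1 := by
  have h0 : ∀ A, x.1 * (A * (x.1.map σ)ᵀ) = A := fun A => LinearMap.congr_fun h A
  have h1 : x.1 * (x.1.map σ)ᵀ = 1 := by simpa using h0 1
  have h2 : (x.1.map σ)ᵀ * x.1 = 1 := mul_eq_one_comm.1 h1
  have h3 : ∀ A, x.1 * A = A * x.1 := fun A => by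
    conv_rhs => rw [← h0 A]
    rw [Matrix.mul_assoc, Matrix.mul_assoc, h2, Matrix.mul_one]
  have e1 := congrFun (congrFun (h3 (Matrix.single 0 1 1)) 0) 1
  have e2 := congrFun (congrFun (h3 (Matrix.single 0 1 1)) 0) 0
  have e3 := congrFun (congrFun (h3 (Matrix.single 1 0 1)) 0) 0
  simp [Matrix.mul_apply, Fin.sum_univ_two, Matrix.single_apply] at e1 e2 e3
  have hd := x.det_coe
  have h01 : x.1 0 1 = 0 := e3
  have h10 : x.1 1 0 = 0 := e2.symm
  rw [Matrix.det_fin_two, h01, h10, e1] at hd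
  rcases sq_eq_one_iff.1 (show x.1 1 1 ^ 2 = 1 by linear_combination hd) with hh | hh <;> [left; right] <;>
    (ext i j; fin_cases i <;> fin_cases j <;> simp [h01, h10, e1, hh])

theorem tw_ne_flip (w : SLK) : tw σ w ≠ flip2 K := by
  intro h
  have h0 : ∀ A, w.1 * (A * (w.1.map σ)ᵀ) = Aᵀ := fun A => LinearMap.congr_fun h A
  have h1 : w.1 * (w.1.map σ)ᵀ = 1 := by simpa using h0 1
  have h2 : (w.1.map σ)ᵀ * w.1 = 1 := mul_eq_one_comm.1 h1
  have h3 : ∀ A, w.1 * A = Aᵀ * w.1 := fun A => by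
    rw [← h0 A, Matrix.mul_assoc, Matrix.mul_assoc, h2, Matrix.mul_one]
  have e1 := congrFun (congrFun (h3 (Matrix.single 0 1 1)) 0) 1
  have e2 := congrFun (congrFun (h3 (Matrix.single 0 0 1)) 1) 0
  simp [Matrix.mul_apply, Fin.sum_univ_two, Matrix.single_apply] at e1 e2
  have hd := w.det_coe
  rw [Matrix.det_fin_two] at hd
  rw [e1, e2] at hd
  simp at hd

/-- Near-scalar elements act as unipotent maps. -/
theorem tw_cube {x : SLK} {a : K} (ha : a = 1 ∨ a = -1) (h : (x.1 - a • 1) ^ 2 = 0) : (tw σ x - 1) ^ 3 = 0 := by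
  set n : M2 := a • x.1 - 1 with hn
  have ha2 : a * a = 1 := by rcases ha with rfl | rfl <;> simp
  have hn' : n = a • (x.1 - a • 1) := by rw [hn, smul_sub, smul_smul, ha2, one_smul]
  have hnn : n * n = 0 := by
    rw [hn', smul_mul_assoc, mul_smul_comm, ← pow_two (x.1 - a • 1), h, smul_zero, smul_zero]
  set r : M2 := (n.map σ)ᵀ with hr
  have hrr : r * r = 0 := by
    rw [hr, ← Matrix.transpose_mul, ← Matrix.map_mul, hnn, Matrix.map_zero _ (map_zero σ), Matrix.transpose_zero]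
  have hxn : x.1 = a • (1 + n) := by rw [hn, add_sub_cancel, smul_smul, ha2, one_smul]
  have hsa : σ a = a := by rcases ha with rfl | rfl <;> simp
  have hT : ∀ A, (tw σ x - 1) A = n * A + A * r + n * A * r := fun A => by
    have hy : (x.1.map σ)ᵀ = a • (1 + r) := by
      rw [hxn, Matrix.map_smul' _ a _ (map_mul σ), hsa, Matrix.map_add _ (map_add σ),
        Matrix.map_one _ (map_zero σ) (map_one σ), Matrix.transpose_smul, Matrix.transpose_add, Matrix.transpose_one]
    rw [LinearMap.sub_apply, tw_apply, hy, hxn, Module.End.one_apply, Matrix.mul_smul, Matrix.mul_smul,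
      Matrix.smul_mul, smul_smul, ha2, one_smul]
    simp only [add_mul, mul_add, one_mul, mul_one, ← mul_assoc]
    abel
  have e1 : ∀ B, n * (n * B) = 0 := fun B => by rw [← mul_assoc, hnn, zero_mul]
  refine LinearMap.ext fun A => ?_
  rw [pow_succ, pow_two, Module.End.mul_apply, Module.End.mul_apply, hT A, hT, hT, LinearMap.zero_apply]
  simp only [add_mul, mul_add, mul_assoc, e1, hrr, mul_zero, zero_mul, add_zero, zero_add]

theorem geom_double (T : Module.End K M2) (k : ℕ) :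
    ∑ i ∈ Finset.range (2 * k), T ^ i = (1 + T) * ∑ j ∈ Finset.range k, (T ^ 2) ^ j := by
  induction k with
  | zero => simp
  | succ k ih =>
    rw [show 2 * (k + 1) = 2 * k + 1 + 1 by ring, Finset.sum_range_succ, Finset.sum_range_succ, ih,
      Finset.sum_range_succ (fun j => (T ^ 2) ^ j), mul_add, ← pow_mul, add_mul 1 T (T ^ (2 * k)), one_mul, ← pow_succ', add_assoc]

variable {p m : ℕ} [Fact p.Prime] [CharP K p]

/-- The inner group. -/
noncomputable def innerX : Subgroup (Module.End K M2)ˣ := (tw σ).toHomUnits.range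

omit [Fact p.Prime] [CharP K p] in
theorem sq_outer (hσσ : ∀ a, σ (σ a) = a) (x : SLK) :
    (tw σ x * flip2 K) ^ 2 = tw σ (x * Matrix.SpecialLinearGroup.map σ x) := by
  refine LinearMap.ext fun A => ?_
  have hmm : ∀ B : M2, (B.map σ).map σ = B := fun B => by ext i j; simp [hσσ]
  rw [pow_two, Module.End.mul_apply, Module.End.mul_apply, Module.End.mul_apply, tw_apply, tw_apply, tw_apply,
    flip2_apply, flip2_apply]
  simp [Matrix.map_mul, Matrix.transpose_mul, Matrix.mul_assoc, hmm]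

omit [Fact p.Prime] [CharP K p] in
theorem flip_tw (hσσ : ∀ a, σ (σ a) = a) (x : SLK) :
    flip2 K * tw σ x = tw σ (Matrix.SpecialLinearGroup.map σ x) * flip2 K := by
  refine LinearMap.ext fun A => ?_
  have hmm : ∀ B : M2, (B.map σ).map σ = B := fun B => by ext i j; simp [hσσ]
  rw [Module.End.mul_apply, Module.End.mul_apply, tw_apply, tw_apply, flip2_apply, flip2_apply]
  simp [Matrix.transpose_mul, Matrix.mul_assoc, hmm]

theorem flip2_sq : flip2 K * flip2 K = 1 := LinearMap.ext fun A => Matrix.transpose_transpose A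

/-- The inner group extended by the semilinear twist. -/
noncomputable def outerX (hσσ : ∀ a, σ (σ a) = a) : Subgroup (Module.End K M2)ˣ where
  carrier := {u | ∃ x, u.1 = tw σ x ∨ u.1 = tw σ x * flip2 K}
  one_mem' := ⟨1, Or.inl (by simp)⟩
  mul_mem' := by
    rintro u v ⟨x, hu | hu⟩ ⟨y, hv | hv⟩
    · exact ⟨x * y, Or.inl (by rw [Units.val_mul, hu, hv, map_mul])⟩
    · exact ⟨x * y, Or.inr (by rw [Units.val_mul, hu, hv, map_mul, mul_assoc])⟩
    · refine ⟨x * Matrix.SpecialLinearGroup.map σ y, Or.inr ?_⟩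
      rw [Units.val_mul, hu, hv, map_mul, mul_assoc, flip_tw σ hσσ, ← mul_assoc]
    · refine ⟨x * Matrix.SpecialLinearGroup.map σ y, Or.inl ?_⟩
      rw [Units.val_mul, hu, hv, map_mul, mul_assoc, ← mul_assoc (flip2 K), flip_tw σ hσσ, mul_assoc (tw σ _),
        flip2_sq, mul_one]
  inv_mem' := by
    rintro u ⟨x, hu | hu⟩
    · exact ⟨x⁻¹, Or.inl (Units.inv_eq_of_mul_eq_one_right (by rw [hu, ← map_mul, mul_inv_cancel, map_one]))⟩
    · refine ⟨Matrix.SpecialLinearGroup.map σ x⁻¹, Or.inr (Units.inv_eq_of_mul_eq_one_right ?_)⟩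
      rw [hu, ← flip_tw σ hσσ, mul_assoc, ← mul_assoc (flip2 K), flip2_sq, one_mul, ← map_mul, mul_inv_cancel, map_one]

variable {σ} [Fintype K] {q : ℕ}

omit [Fact p.Prime] [CharP K p] in
theorem sigma_sq (hσ : ∀ a, σ a = a ^ q) (hK : Fintype.card K = q ^ 2) (a : K) : σ (σ a) = a := by
  rw [hσ, hσ, ← pow_mul, ← pow_two, ← hK, FiniteField.pow_card]

/-- Inner elements: the order, and the order in the presence of a fixed vector. -/
theorem inner_cases (hm : 1 ≤ m) (hq : q = p ^ m) (hσ : ∀ a, σ a = a ^ q) (hK : Fintype.card K = q ^ 2) (x : SLK) :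
    (x.1.trace ^ 2 = 4 ∧ tw σ x ^ p = 1) ∨
    (x.1.trace ^ 2 ≠ 4 ∧ (∃ N, (N = q ^ 2 + 1 ∨ N = q ^ 2 - 1) ∧ tw σ x ^ (N / half p) = 1) ∧
      ∀ A, A ≠ 0 → tw σ x A = A → ∃ N, (N = q + 1 ∨ N = q - 1) ∧ tw σ x ^ (N / half p) = 1) := by
  by_cases ht : x.1.trace ^ 2 = 4
  · exact Or.inl ⟨ht, tw_pm σ (sl_pow_prime x ht)⟩
  refine Or.inr ⟨ht, ?_, fun A hA h => ?_⟩
  · obtain ⟨N, hN, h⟩ := sl_pow x (m := m * 2) (Q := q ^ 2) (by omega) (by rw [hq, ← pow_mul])
      (by rw [← hK, FiniteField.pow_card]) ht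
    exact ⟨N, hN, tw_pm σ h⟩
  · obtain ⟨N, hN, h⟩ := sl_pow x hm hq (by rw [← hσ]; exact trace_fixed σ hA h) ht
    exact ⟨N, hN, tw_pm σ h⟩

omit [Fact p.Prime] [CharP K p] [Fintype K] in
theorem orderOf_dvd_val {X : Subgroup (Module.End K M2)ˣ} (g : ↥X) {k : ℕ}
    (h : (g.1 : Module.End K M2) ^ k = 1) : orderOf g ∣ k := by
  refine orderOf_dvd_of_pow_eq_one (Subtype.ext (Units.ext ?_))
  rw [Subgroup.coe_pow, Units.val_pow_eq_pow_val, h]
  rfl

omit [Fact p.Prime] [CharP K p] [Fintype K] in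
theorem pow_of_val {X : Subgroup (Module.End K M2)ˣ} (g : ↥X) : (g.1 : Module.End K M2) ^ orderOf g = 1 :=
  val_pow_orderOf g

/-- The split extension in characteristic two. -/
theorem exists_isospectral_even [CharP K 2] (hm : 1 ≤ m) (hq : q = 2 ^ m) (hσ : ∀ a, σ a = a ^ q)
    (hK : Fintype.card K = q ^ 2) (N : ℕ) :
    ∃ (H : Type) (_ : Group H) (_ : Fintype H), N < Fintype.card H ∧
      Set.range (orderOf : H → ℕ) = {n | Cov (specList 2 q) n} := by
  haveI : Fact (Nat.Prime 2) := ⟨Nat.prime_two⟩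
  have hh : half 2 = 1 := rfl
  refine exists_isospectral (innerX σ) 2 _ ?_ ?_ N
  · rintro ⟨u, x, rfl⟩
    rcases inner_cases (p := 2) hm hq hσ hK x with ⟨-, h⟩ | ⟨-, ⟨M, hM, h⟩, hfix⟩
    · have hd : orderOf (⟨_, x, rfl⟩ : ↥(innerX σ)) ∣ 2 := orderOf_dvd_val _ h
      exact ⟨cov_top.mono (hd.trans (by decide)), fun _ => cov_top.mono (Nat.mul_dvd_mul_left 2 hd)⟩
    · refine ⟨(cov_square hM).mono (orderOf_dvd_val _ h), fun hne => ?_⟩
      obtain ⟨A, hA, hfA⟩ := exists_fixed_of_norm hne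
      obtain ⟨M', hM', h'⟩ := hfix A hA hfA
      have hd := orderOf_dvd_val (⟨_, x, rfl⟩ : ↥(innerX σ)) h'
      rw [hh, Nat.div_one] at hd
      exact (cov_mul hM').mono (Nat.mul_dvd_mul_left 2 hd)
  · have hsq : ∀ M, (M = q ^ 2 + 1 ∨ M = q ^ 2 - 1) → ∃ g : ↥(innerX σ), M / half 2 ∣ orderOf g := by
      intro M hM
      obtain ⟨x, hx⟩ := exists_order (K := K) (N := M) (by rwa [hK])
      refine ⟨⟨_, x, rfl⟩, ?_⟩
      rw [hh, Nat.div_one, ← hx]
      refine orderOf_dvd_of_pow_eq_one ?_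
      have h1 : tw σ x ^ orderOf (⟨_, x, rfl⟩ : ↥(innerX σ)) = 1 := pow_of_val (⟨_, x, rfl⟩ : ↥(innerX σ))
      rw [← map_pow] at h1
      refine Subtype.ext ?_
      rcases tw_eq_one σ h1 with h | h
      · exact h
      · rw [h, Matrix.SpecialLinearGroup.coe_one]; ext i j; simp [CharTwo.neg_eq]
    have hmul : ∀ (M : ℕ) (lam : Kˣ) (A : M2), orderOf lam = M → Odd M → A ≠ 0 → tw σ (diagU lam) A = A →
        ∃ g : ↥(innerX σ), 2 * M ∣ orderOf g ∨ (norm g ≠ 0 ∧ 2 * M ∣ 2 * orderOf g) := by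
      intro M lam A hlam hMo hA hfA
      refine ⟨⟨_, diagU lam, rfl⟩, ?_⟩
      have h1 : tw σ (diagU lam) ^ orderOf (⟨_, diagU lam, rfl⟩ : ↥(innerX σ)) = 1 :=
        pow_of_val (⟨_, diagU lam, rfl⟩ : ↥(innerX σ))
      rw [← map_pow] at h1
      have h2 := two_mul_of_diag_pow (tw_eq_one σ h1)
      have hMn := (Nat.coprime_two_right.2 hMo).dvd_of_dvd_mul_left (hlam ▸ orderOf_dvd_of_pow_eq_one h2)
      by_cases h2n : 2 ∣ orderOf (⟨_, diagU lam, rfl⟩ : ↥(innerX σ))
      · exact Or.inl ((Nat.coprime_two_left.2 hMo).mul_dvd_of_dvd_of_dvd h2n hMn)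
      · exact Or.inr ⟨norm_ne_zero_of_fixed hA hfA h2n, Nat.mul_dvd_mul_left 2 hMn⟩
    have hq2 : 2 ≤ q := hq ▸ Nat.le_self_pow (by omega) 2
    have hqe : 2 ∣ q := hq ▸ dvd_pow_self 2 (by omega)
    obtain ⟨ζ, hζ⟩ := IsCyclic.exists_ofOrder_eq_natCard (α := Kˣ)
    rw [Nat.card_units, Nat.card_eq_fintype_card, hK,
      show q ^ 2 - 1 = (q + 1) * (q - 1) by rw [← Nat.sq_sub_sq, one_pow]] at hζ
    simp only [specList, List.mem_cons, List.not_mem_nil, or_false]
    rintro a (rfl | rfl | rfl | rfl | rfl)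
    · exact (hsq _ (Or.inl rfl)).imp fun _ h => Or.inl h
    · exact (hsq _ (Or.inr rfl)).imp fun _ h => Or.inl h
    · have ho : orderOf (ζ ^ (q - 1)) = q + 1 := by
        rw [orderOf_pow, hζ, Nat.gcd_mul_left_left, Nat.mul_div_cancel _ (by omega)]
      refine hmul _ _ (Matrix.single 0 0 1) ho (by rw [Nat.odd_iff]; omega)
        (fun h => by simpa using congrFun (congrFun h 0) 0) ?_
      have hl : ((ζ ^ (q - 1) : Kˣ) : K) * ((ζ ^ (q - 1) : Kˣ) : K) ^ q = 1 := by
        rw [← pow_succ', ← Units.val_pow_eq_pow_val, ← ho, pow_orderOf_eq_one, Units.val_one]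
      simp only [Units.val_pow_eq_pow_val] at hl
      ext i j
      fin_cases i <;> fin_cases j <;>
        simp [tw_apply, diagU_val, Matrix.mul_apply, Fin.sum_univ_two, Matrix.single_apply, hσ, hl,
          zero_pow (show q ≠ 0 by omega)]
    · have ho : orderOf (ζ ^ (q + 1)) = q - 1 := by
        rw [orderOf_pow, hζ, Nat.gcd_mul_right_left, Nat.mul_div_cancel_left _ (by omega)]
      refine hmul _ _ (Matrix.single 0 1 1) ho (by rw [Nat.odd_iff]; omega)
        (fun h => by simpa using congrFun (congrFun h 0) 1) ?_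
      have hl : ((ζ ^ (q + 1) : Kˣ) : K) ^ q = ((ζ ^ (q + 1) : Kˣ) : K) := by
        have h1 : (ζ ^ (q + 1)) ^ (q - 1) = 1 := by rw [← ho, pow_orderOf_eq_one]
        have h3 : (ζ ^ (q + 1)) ^ (q - 1 + 1) = ζ ^ (q + 1) := by rw [pow_succ, h1, one_mul]
        rw [Nat.sub_add_cancel (show 1 ≤ q by omega)] at h3
        rw [← Units.val_pow_eq_pow_val, h3]
      simp only [Units.val_pow_eq_pow_val] at hl
      ext i j
      fin_cases i <;> fin_cases j <;>
        simp [tw_apply, diagU_val, Matrix.mul_apply, Fin.sum_univ_two, Matrix.single_apply, hσ, hl,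
          zero_pow (show q ≠ 0 by omega)]
    · have h2 : orderOf (⟨_, shear K, rfl⟩ : ↥(innerX σ)) = 2 := by
        refine orderOf_eq_prime ?_ fun h => ?_
        · refine Subtype.ext (Units.ext ?_)
          exact tw_pm σ (sl_pow_prime (p := 2) (shear K) shear_trace)
        · have h1 := tw_eq_one σ (congrArg (fun g : ↥(innerX σ) => (g.1 : Module.End K M2)) h)
          rcases h1 with h1 | h1 <;> simpa [shear_val] using congrFun (congrFun h1 0) 1
      refine ⟨⟨_, shear K, rfl⟩, Or.inr ⟨fun h => ?_, by rw [h2]; decide⟩⟩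
      have h1 := LinearMap.congr_fun h (Matrix.single 1 1 1)
      rw [norm, h2, Finset.sum_range_succ, Finset.sum_range_one, LinearMap.add_apply] at h1
      have h3 := congrFun (congrFun h1 0) 1
      simp only [pow_zero, pow_one, Module.End.one_apply, MonoidHom.coe_toHomUnits, tw_apply, LinearMap.zero_apply,
        Matrix.add_apply, Matrix.mul_apply, Fin.sum_univ_two, Matrix.transpose_apply, Matrix.map_apply,
        Matrix.single_apply, shear_val] at h3
      simp at h3

/-- The split extension for characteristic at least five. -/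
theorem exists_isospectral_odd (hp5 : 5 ≤ p) (hm : 1 ≤ m) (hq : q = p ^ m) (hσ : ∀ a, σ a = a ^ q)
    (hK : Fintype.card K = q ^ 2) (N : ℕ) :
    ∃ (H : Type) (_ : Group H) (_ : Fintype H), N < Fintype.card H ∧
      Set.range (orderOf : H → ℕ) = {n | Cov (specList p q) n} := by
  have hp : p.Prime := Fact.out
  have hp2 : p ≠ 2 := by omega
  have hh : half p = 2 := if_neg hp2
  have htp : top p = p := by rw [top, if_neg hp2, if_neg (by omega)]
  have hss := sigma_sq hσ hK
  refine exists_isospectral (outerX σ hss) p _ ?_ ?_ N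
  · rintro ⟨u, x, hu | hu⟩
    · set g : ↥(outerX σ hss) := ⟨u, x, Or.inl hu⟩
      have hg : (g.1 : Module.End K M2) = tw σ x := hu
      rcases inner_cases (p := p) hm hq hσ hK x with ⟨ht, h⟩ | ⟨-, ⟨M, hM, h⟩, hfix⟩
      · have hd : orderOf g ∣ p := orderOf_dvd_val g (by rw [hg, h])
        refine ⟨(cov_top).mono (htp.symm ▸ hd), fun hne => ?_⟩
        rcases (Nat.dvd_prime hp).1 hd with h1 | h1
        · exact (cov_top).mono (by rw [h1, mul_one, htp])
        · exfalso
          refine hne ?_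
          obtain ⟨a, ha, hsqz⟩ := sl_unipotent x ht
          rw [norm, h1, geom_eq_pow p, hg]
          exact pow_eq_zero_of_le (by omega) (tw_cube σ ha hsqz)
      · refine ⟨(cov_square hM).mono (orderOf_dvd_val g (by rw [hg, h])), fun hne => ?_⟩
        obtain ⟨A, hA, hfA⟩ := exists_fixed_of_norm hne
        obtain ⟨M', hM', h'⟩ := hfix A hA (hg ▸ hfA)
        exact (cov_mul hM').mono (Nat.mul_dvd_mul_left p
          ((orderOf_dvd_val g (by rw [hg, h'])).trans (Nat.div_dvd_of_dvd (half_dvd m hm hq hM'))))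
    · set g : ↥(outerX σ hss) := ⟨u, x, Or.inr hu⟩
      have hg : (g.1 : Module.End K M2) = tw σ x * flip2 K := hu
      set z := x * Matrix.SpecialLinearGroup.map σ x with hz
      have hg2 : (g.1 : Module.End K M2) ^ 2 = tw σ z := by rw [hg, sq_outer σ hss]
      have hzt : z.1.trace ^ q = z.1.trace := by
        rw [← hσ, hz, Matrix.SpecialLinearGroup.coe_mul, AddMonoidHom.map_trace]
        show ((x.1 * x.1.map σ).map σ).trace = _
        rw [Matrix.map_mul, show (x.1.map σ).map σ = x.1 by ext i j; simp [hss], Matrix.trace_mul_comm]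
        rfl
      by_cases ht : z.1.trace ^ 2 = 4
      · have hd : orderOf g ∣ 2 * p := orderOf_dvd_val g (by rw [pow_mul, hg2]; exact tw_pm σ (sl_pow_prime z ht))
        refine ⟨(top_dvd_of_two_mul m hm hq hp2).mono hd, fun hne => ?_⟩
        by_cases hpn : p ∣ orderOf g
        · exfalso
          refine hne ?_
          obtain ⟨k, hk⟩ := hpn
          have hk2 : k ∣ 2 := Nat.dvd_of_mul_dvd_mul_left hp.pos (by rwa [← hk, mul_comm p 2])
          obtain ⟨a, ha, hsqz⟩ := sl_unipotent z ht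
          rcases (Nat.dvd_prime Nat.prime_two).1 hk2 with rfl | rfl
          · rw [mul_one] at hk
            rw [norm, hk, geom_eq_pow p]
            obtain ⟨j, hj⟩ := hp.odd_of_ne_two hp2
            have hT : (g.1 : Module.End K M2) = tw σ (z ^ (j + 1)) := by
              rw [map_pow, ← hg2, ← pow_mul, show 2 * (j + 1) = p + 1 by omega, pow_succ, ← hk, pow_of_val, one_mul]
            rw [hT]
            refine pow_eq_zero_of_le (by omega) (tw_cube σ (a := a ^ (j + 1)) ?_ ?_)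
            · rcases ha with rfl | rfl
              exacts [Or.inl (one_pow _), neg_one_pow_eq_or K _]
            · rw [Matrix.SpecialLinearGroup.coe_pow, show (a ^ (j + 1)) • (1 : M2) = (a • 1) ^ (j + 1) by
                rw [smul_pow, one_pow]]
              have hgs := Commute.mul_geom_sum₂ ((Commute.one_right z.1).smul_right a) (j + 1)
              rw [← hgs, Commute.mul_pow, hsqz, zero_mul]
              refine Commute.sum_right _ _ _ fun i _ => ?_
              exact (((Commute.refl z.1).sub_left ((Commute.one_left z.1).smul_left a)).pow_right i).mul_right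
                ((((Commute.one_right z.1).smul_right a).sub_left
                  (Commute.refl (a • (1 : M2)))).pow_right _)
          · rw [norm, hk, mul_comm p 2, geom_double, geom_eq_pow p, hg2]
            rw [pow_eq_zero_of_le (by omega) (tw_cube σ ha hsqz), mul_zero]
        · have hd2 : orderOf g ∣ 2 := ((hp.coprime_iff_not_dvd.2 hpn).symm).dvd_of_dvd_mul_right hd
          exact (top_dvd_of_two_mul m hm hq hp2).mono (mul_comm p 2 ▸ Nat.mul_dvd_mul_left p hd2)
      · obtain ⟨M, hM, h⟩ := sl_pow z hm hq hzt ht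
        have hd : orderOf g ∣ M := by
          have hh2 := half_dvd m hm hq hM
          rw [hh] at hh2
          have h1 : orderOf g ∣ 2 * (M / half p) := orderOf_dvd_val g (by rw [pow_mul, hg2]; exact tw_pm σ h)
          rwa [hh, Nat.mul_div_cancel' hh2] at h1
        exact ⟨(cov_mul hM).mono (hd.trans (dvd_mul_left _ _)), fun _ => (cov_mul hM).mono (Nat.mul_dvd_mul_left p hd)⟩
  · have hodd : Odd q := hq ▸ (hp.odd_of_ne_two hp2).pow
    have hsq : ∀ M, (M = q ^ 2 + 1 ∨ M = q ^ 2 - 1) → ∃ g : ↥(outerX σ hss), M / half p ∣ orderOf g := by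
      intro M hM
      obtain ⟨x, hx⟩ := exists_order (K := K) (N := M) (by rwa [hK])
      refine ⟨⟨(tw σ).toHomUnits x, x, Or.inl rfl⟩, ?_⟩
      set g : ↥(outerX σ hss) := ⟨(tw σ).toHomUnits x, x, Or.inl rfl⟩
      have h1 : tw σ x ^ orderOf g = 1 := pow_of_val g
      rw [← map_pow] at h1
      have h2 : x ^ (2 * orderOf g) = 1 := by
        refine Subtype.ext ?_
        rw [mul_comm, pow_mul, Matrix.SpecialLinearGroup.coe_pow]
        rcases tw_eq_one σ h1 with h | h <;> rw [h] <;> simp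
      obtain ⟨c, hc⟩ : 2 ∣ M := by
        obtain ⟨e, he⟩ := hodd.pow (n := 2)
        omega
      have h3 := hx ▸ orderOf_dvd_of_pow_eq_one h2
      rw [hh, hc, Nat.mul_div_cancel_left _ two_pos]
      exact Nat.dvd_of_mul_dvd_mul_left two_pos (hc ▸ h3)
    have hout : ∀ (x : SLK) (A : M2) (μ : Kˣ) (M : ℕ), A ≠ 0 → tw σ x Aᵀ = A →
        x * Matrix.SpecialLinearGroup.map σ x = diagU μ → (∀ j, μ ^ (2 * j) = 1 → M ∣ 2 * j) →
        ¬ p ∣ M →
        ∃ g : ↥(outerX σ hss), p * M ∣ orderOf g ∨ (norm g ≠ 0 ∧ p * M ∣ p * orderOf g) := by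
      intro x A μ M hA hfA hzz hμ hpM
      obtain ⟨u, hu⟩ : ∃ u : (Module.End K M2)ˣ, u.1 = tw σ x * flip2 K := by
        refine ⟨(tw σ).toHomUnits x * ⟨flip2 K, flip2 K, flip2_sq, flip2_sq⟩, ?_⟩
        rw [Units.val_mul, MonoidHom.coe_toHomUnits]
      refine ⟨⟨u, x, Or.inr hu⟩, ?_⟩
      set g : ↥(outerX σ hss) := ⟨u, x, Or.inr hu⟩
      have hg : (g.1 : Module.End K M2) = tw σ x * flip2 K := hu
      have hg2 : (g.1 : Module.End K M2) ^ 2 = tw σ (diagU μ) := by rw [hg, sq_outer σ hss, hzz]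
      obtain ⟨j, hj⟩ : 2 ∣ orderOf g := by
        by_contra hodd'
        obtain ⟨k, hk⟩ : ∃ k, orderOf g = 2 * k + 1 := ⟨orderOf g / 2, by omega⟩
        have h1 := pow_of_val g
        rw [hk, pow_succ, pow_mul, hg2, hg, ← map_pow, ← mul_assoc, ← map_mul] at h1
        refine tw_ne_flip σ ((diagU μ ^ k * x)⁻¹) ?_
        rw [← mul_one (tw σ (diagU μ ^ k * x)⁻¹), ← h1, ← mul_assoc, ← map_mul, inv_mul_cancel, map_one, one_mul]
      have h1 := pow_of_val g
      rw [hj, pow_mul, hg2, ← map_pow] at h1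
      have hMn : M ∣ orderOf g := hj ▸ hμ j (two_mul_of_diag_pow (tw_eq_one σ h1))
      by_cases hpn : p ∣ orderOf g
      · exact Or.inl ((hp.coprime_iff_not_dvd.2 hpM).mul_dvd_of_dvd_of_dvd hpn hMn)
      · refine Or.inr ⟨norm_ne_zero_of_fixed hA ?_ hpn, Nat.mul_dvd_mul_left p hMn⟩
        rw [hg, Module.End.mul_apply, flip2_apply, hfA]
    have hq3 : 3 ≤ q := hq ▸ le_trans (by omega) (Nat.le_self_pow (by omega : m ≠ 0) p)
    have hpq : p ∣ q := hq ▸ dvd_pow_self p (by omega)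
    obtain ⟨ζ, hζ⟩ := IsCyclic.exists_ofOrder_eq_natCard (α := Kˣ)
    rw [Nat.card_units, Nat.card_eq_fintype_card, hK,
      show q ^ 2 - 1 = (q + 1) * (q - 1) by rw [← Nat.sq_sub_sq, one_pow]] at hζ
    have hn0 : (ζ : K) ≠ 0 := ζ.ne_zero
    have hqq : ((ζ : K) ^ q) ^ q = (ζ : K) := by rw [← hσ, ← hσ, hss]
    have hplus : ∃ g : ↥(outerX σ hss), p * (q + 1) ∣ orderOf g ∨
        (norm g ≠ 0 ∧ p * (q + 1) ∣ p * orderOf g) := by
      let x : SLK := ⟨!![0, (ζ : K); -(ζ : K)⁻¹, 0], by simp [Matrix.det_fin_two_of]⟩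
      have hx : x.1 = !![0, (ζ : K); -(ζ : K)⁻¹, 0] := rfl
      refine hout x !![1, 0; 0, ((ζ : K) ^ (q + 1))⁻¹] (-(ζ / ζ ^ q)) _
        (fun h => by simpa using congrFun (congrFun h 0) 0) ?_ ?_ (fun j hj => ?_) ?_
      · ext i j
        fin_cases i <;> fin_cases j <;>
          simp [tw_apply, hx, Matrix.mul_apply, Fin.sum_univ_two, hσ, neg_pow, hodd.neg_one_pow, zero_pow (show q ≠ 0 by omega), pow_succ'] <;>
          try field_simp
      · refine Subtype.ext ?_
        rw [Matrix.SpecialLinearGroup.coe_mul, diagU_val]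
        show x.1 * x.1.map σ = _
        ext i j
        fin_cases i <;> fin_cases j <;>
          simp [hx, Matrix.mul_apply, Fin.sum_univ_two, hσ, neg_pow, hodd.neg_one_pow, zero_pow (show q ≠ 0 by omega)] <;> try field_simp
      · rw [neg_pow, (Even.neg_one_pow ⟨j, two_mul j⟩), one_mul, div_pow, div_eq_one, ← pow_mul] at hj
        have h1 : ζ ^ ((q - 1) * (2 * j)) = 1 := by
          have h2 : ζ ^ (2 * j) * ζ ^ ((q - 1) * (2 * j)) = ζ ^ (2 * j) * 1 := by
            rw [mul_one, ← pow_add, show 2 * j + (q - 1) * (2 * j) = q * (2 * j) by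
              rw [add_comm, ← Nat.succ_mul, show (q - 1).succ = q by omega]]
            exact hj.symm
          exact mul_left_cancel h2
        have h2 := hζ ▸ orderOf_dvd_of_pow_eq_one h1
        exact Nat.dvd_of_mul_dvd_mul_left (show 0 < q - 1 by omega) (by rwa [mul_comm (q - 1) (q + 1)])
      · intro h
        exact hp.not_dvd_one ((Nat.dvd_add_right hpq).1 h)
    have hminus : ∃ g : ↥(outerX σ hss), p * (q - 1) ∣ orderOf g ∨
        (norm g ≠ 0 ∧ p * (q - 1) ∣ p * orderOf g) := by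
      refine hout (diagU ζ) !![0, 1; (ζ : K) ^ (q - 1), 0] (ζ * ζ ^ q) _
        (fun h => by simpa using congrFun (congrFun h 0) 1) ?_ ?_ (fun j hj => ?_) ?_
      · have e : (ζ : K) ^ q = (ζ : K) ^ (q - 1) * ζ := by rw [← pow_succ, Nat.sub_add_cancel (by omega)]
        ext i j
        fin_cases i <;> fin_cases j <;>
          simp [tw_apply, diagU_val, Matrix.mul_apply, Fin.sum_univ_two, hσ, e, zero_pow (show q ≠ 0 by omega)] <;> try field_simp
      · refine Subtype.ext ?_
        rw [Matrix.SpecialLinearGroup.coe_mul, diagU_val, diagU_val]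
        show !![(ζ : K), 0; 0, ((ζ⁻¹ : Kˣ) : K)] * !![(ζ : K), 0; 0, ((ζ⁻¹ : Kˣ) : K)].map σ = _
        ext i j
        fin_cases i <;> fin_cases j <;> simp [Matrix.mul_apply, Fin.sum_univ_two, hσ, mul_comm, zero_pow (show q ≠ 0 by omega)]
      · rw [← pow_succ', ← pow_mul] at hj
        exact Nat.dvd_of_mul_dvd_mul_left (show 0 < q + 1 by omega) (hζ ▸ orderOf_dvd_of_pow_eq_one hj)
      · intro h
        have := Nat.dvd_sub hpq h
        rw [Nat.sub_sub_self (by omega)] at this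
        exact hp.not_dvd_one this
    simp only [specList, List.mem_cons, List.not_mem_nil, or_false]
    rintro a (rfl | rfl | rfl | rfl | rfl)
    · exact (hsq _ (Or.inl rfl)).imp fun _ h => Or.inl h
    · exact (hsq _ (Or.inr rfl)).imp fun _ h => Or.inl h
    · exact hplus
    · exact hminus
    · obtain ⟨g, hg | ⟨hne, hg⟩⟩ := hplus
      · exact ⟨g, Or.inl (htp.symm ▸ (dvd_mul_right p _).trans hg)⟩
      · exact ⟨g, Or.inr ⟨hne, htp.symm ▸ dvd_mul_right p _⟩⟩

end CfsgLib.HallGen.SympFourSpectrum
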